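import Groth.Agent.Lib.SepAct.Homog
import Mathlib.AlgebraicGeometry.Fiber
import Mathlib.AlgebraicGeometry.Morphisms.Immersion
import Mathlib.AlgebraicGeometry.Morphisms.UniversallyOpen
import Mathlib.AlgebraicGeometry.PullbackCarrier
import Mathlib.FieldTheory.IsAlgClosed.AlgebraicClosure

/-!
A scheme with a transitive action of a group which is universally open along the unit is separated
as soon as each fibre contains a dense trace of a separated open.
-/

universe u

open CategoryTheory CategoryTheory.Limits MonoidalCategory CartesianMonoidalCategory MonObj GrpObj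
open AlgebraicGeometry Topology

set_option backward.isDefEq.respectTransparency false

namespace GrothLib.SepAct

open GrothLib.GrpSchField

theorem exists_lift_of_mem_range {Z P : Scheme.{u}} (j : Z ⟶ P) [IsPreimmersion j] {K : Type u} [Field K]
    (f : Spec (CommRingCat.of K) ⟶ P) (h : f (IsLocalRing.closedPoint K) ∈ Set.range j) :
    ∃ g, g ≫ j = f := by
  obtain ⟨z, hz⟩ := h
  have hsurj : Function.Surjective (j.residueFieldMap z) := fun a => by
    obtain ⟨y, hy⟩ := Z.residue_surjective z a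
    obtain ⟨w, rfl⟩ := j.stalkMap_surjective z y
    refine ⟨P.residue _ w, ?_⟩
    rw [← hy]
    exact congr($(Scheme.residue_residueFieldMap j z) w)
  haveI : IsIso (j.residueFieldMap z) :=
    (ConcreteCategory.isIso_iff_bijective _).mpr ⟨(j.residueFieldMap z).hom.injective, hsurj⟩
  let ψ : P.residueField (j z) ⟶ CommRingCat.of K :=
    (P.residueFieldCongr hz).hom ≫ Scheme.descResidueField (Scheme.stalkClosedPointTo f)
  refine ⟨Spec.map (inv (j.residueFieldMap z) ≫ ψ) ≫ Z.fromSpecResidueField z, ?_⟩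
  rw [Category.assoc, ← Scheme.Hom.SpecMap_residueFieldMap_fromSpecResidueField, ← Spec.map_comp_assoc,
    IsIso.hom_inv_id_assoc]
  simp only [ψ, Spec.map_comp, Category.assoc, Scheme.residueFieldCongr_fromSpecResidueField]
  exact Scheme.descResidueField_stalkClosedPointTo_fromSpecResidueField K P f

variable {S : Scheme.{u}} {G X : Over S}

theorem diagonal_eq : (lift (𝟙 X) (𝟙 X)).left = pullback.diagonal X.hom := by
  rfl

theorem mem_range_diagonal_iff {K : Type u} [Field K] (b : Spec (CommRingCat.of K) ⟶ S)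
    (x y : Over.mk b ⟶ X) :
    (lift x y).left (IsLocalRing.closedPoint K) ∈ Set.range (pullback.diagonal X.hom) ↔ x = y := by
  constructor
  · intro h
    obtain ⟨k, hk⟩ := exists_lift_of_mem_range (pullback.diagonal X.hom) _ h
    have h₁ : x.left = k := by
      rw [← lift_fst x y, Over.comp_left, ← hk, Category.assoc]
      erw [pullback.diagonal_fst, Category.comp_id]
    have h₂ : y.left = k := by
      rw [← lift_snd x y, Over.comp_left, ← hk, Category.assoc]
      erw [pullback.diagonal_snd, Category.comp_id]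
    exact Over.OverMorphism.ext (h₁.trans h₂.symm)
  · rintro rfl
    refine ⟨x.left (IsLocalRing.closedPoint K), ?_⟩
    rw [← diagonal_eq, ← Scheme.Hom.comp_apply, ← Over.comp_left]
    simp [comp_lift]

theorem dense_fibre {X : Over S} {K : Type u} [Field K] (b : Spec (CommRingCat.of K) ⟶ S)
    (hft : LocallyOfFiniteType (X.hom.fiberToSpecResidueField (b (IsLocalRing.closedPoint K))))
    (U : Set X.left)
    (hd : X.hom ⁻¹' {b (IsLocalRing.closedPoint K)} ⊆
      closure (U ∩ X.hom ⁻¹' {b (IsLocalRing.closedPoint K)})) :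
    IsLocallyNoetherian (X ⊗ Over.mk b).left ∧ Dense ((fst X (Over.mk b)).left ⁻¹' U) := by
  let s := b (IsLocalRing.closedPoint K)
  let β := Spec.map (Scheme.descResidueField (Scheme.stalkClosedPointTo b))
  have hβ : β ≫ S.fromSpecResidueField s = b :=
    Scheme.descResidueField_stalkClosedPointTo_fromSpecResidueField K S b
  let π : pullback X.hom b ⟶ X.hom.fiber s := pullback.lift (pullback.fst _ _) (pullback.snd _ _ ≫ β)
    (by rw [Category.assoc, hβ, pullback.condition])
  have h1 : IsPullback (pullback.snd X.hom b) π β (X.hom.fiberToSpecResidueField s) := by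
    refine IsPullback.of_right (h₁₂ := X.hom.fiberι s) (v₁₃ := X.hom) (h₂₂ := S.fromSpecResidueField s)
      ?_ ?_ ?_ |>.flip
    · rw [hβ, show π ≫ X.hom.fiberι s = pullback.fst _ _ from pullback.lift_fst _ _ _]
      exact IsPullback.of_hasPullback X.hom b
    · exact pullback.lift_snd _ _ _
    · exact IsPullback.of_hasPullback X.hom (S.fromSpecResidueField s)
  haveI : IsIntegral (Spec (S.residueField s)) := inferInstance
  haveI : Subsingleton (Spec (S.residueField s)) := inferInstanceAs (Subsingleton (PrimeSpectrum _))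
  haveI : UniversallyOpen π := MorphismProperty.of_isPullback h1 (inferInstanceAs (UniversallyOpen β))
  haveI : LocallyOfFiniteType (pullback.snd X.hom b) := MorphismProperty.of_isPullback h1.flip hft
  refine ⟨LocallyOfFiniteType.isLocallyNoetherian (pullback.snd X.hom b), ?_⟩
  have hUs : Dense (X.hom.fiberι s ⁻¹' U) := fun w => by
    rw [(X.hom.fiberι s).isEmbedding.isInducing.closure_eq_preimage_closure_image,
      Set.mem_preimage, Set.image_preimage_eq_inter_range, X.hom.range_fiberι]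
    exact hd (by rw [← X.hom.range_fiberι]; exact ⟨w, rfl⟩)
  have := hUs.preimage π.isOpenMap
  rwa [← Set.preimage_comp, ← TopCat.coe_comp, ← Scheme.Hom.comp_base,
    show π ≫ X.hom.fiberι s = pullback.fst _ _ from pullback.lift_fst _ _ _] at this

variable [GrpObj G] (a : AlgGrp.Action G X)

/-- Simultaneous action on pairs of points. -/
noncomputable def act₂ : G ⊗ (X ⊗ X) ⟶ X ⊗ X :=
  lift (lift (fst G (X ⊗ X)) (snd G (X ⊗ X) ≫ fst X X) ≫ a.act)
    (lift (fst G (X ⊗ X)) (snd G (X ⊗ X) ≫ snd X X) ≫ a.act)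

theorem act₂_mem_range (p : ↥(G ⊗ (X ⊗ X)).left)
    (hp : (snd G (X ⊗ X)).left p ∈ Set.range (pullback.diagonal X.hom)) :
    (act₂ a).left p ∈ Set.range (pullback.diagonal X.hom) := by
  let P := (G ⊗ (X ⊗ X)).left
  let b : Spec (CommRingCat.of (P.residueField p)) ⟶ S := P.fromSpecResidueField p ≫ (G ⊗ (X ⊗ X)).hom
  let F : Over.mk b ⟶ G ⊗ (X ⊗ X) := Over.homMk (P.fromSpecResidueField p)
  have hF : F.left (IsLocalRing.closedPoint (P.residueField p)) = p := P.fromSpecResidueField_apply p _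
  have hxy : F ≫ snd G (X ⊗ X) = lift (F ≫ snd G (X ⊗ X) ≫ fst X X) (F ≫ snd G (X ⊗ X) ≫ snd X X) :=
    CartesianMonoidalCategory.hom_ext _ _ (by simp) (by simp)
  have heq : F ≫ snd G (X ⊗ X) ≫ fst X X = F ≫ snd G (X ⊗ X) ≫ snd X X := by
    rw [← mem_range_diagonal_iff b, ← hxy, Over.comp_left, Scheme.Hom.comp_apply, hF]
    exact hp
  have h2 : F ≫ act₂ a = lift (lift (F ≫ fst G (X ⊗ X)) (F ≫ snd G (X ⊗ X) ≫ fst X X) ≫ a.act)
      (lift (F ≫ fst G (X ⊗ X)) (F ≫ snd G (X ⊗ X) ≫ snd X X) ≫ a.act) := by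
    simp [act₂, comp_lift, comp_lift_assoc]
  rw [← hF, ← Scheme.Hom.comp_apply, ← Over.comp_left, h2]
  exact (mem_range_diagonal_iff b _ _).mpr (by rw [heq])

/-- Separatedness from simultaneous translation into separated opens. -/
theorem isSeparated_of_key [LocallyOfFiniteType G.hom] (W : G.left.Opens)
    (hW : ∀ p : ↥(𝟙_ (Over S)).left, η[G].left p ∈ W) [UniversallyOpen (W.ι ≫ G.hom)]
    (hU : ∀ (K : Type u) [Field K] [IsAlgClosed K] (b : Spec (CommRingCat.of K) ⟶ S),
      ∃ U : X.left.Opens, IsSeparated (U.ι ≫ X.hom) ∧ ∀ z : Over.mk b ⟶ X,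
      (irreducibleComponent ((lift (1 : Over.mk b ⟶ G) (𝟙 (Over.mk b))).left (IsLocalRing.closedPoint K)) ∩
        (orbit a (Over.mk b) z).left ⁻¹' ((fst X (Over.mk b)).left ⁻¹' (U : Set X.left))).Nonempty) :
    IsSeparated X.hom := by
  refine ⟨IsClosedImmersion.of_isPreimmersion _ (isClosed_of_closure_subset fun z hz => ?_)⟩
  let P := (X ⊗ X).left
  let K := AlgebraicClosure (P.residueField z)
  let f : Spec (CommRingCat.of K) ⟶ P :=
    Spec.map (CommRingCat.ofHom (algebraMap (P.residueField z) K)) ≫ P.fromSpecResidueField z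
  let pt : Spec (CommRingCat.of K) := IsLocalRing.closedPoint K
  have hfz : f pt = z := by
    simp only [f, Scheme.Hom.comp_apply]
    exact P.fromSpecResidueField_apply z _
  let b : Spec (CommRingCat.of K) ⟶ S := f ≫ (X ⊗ X).hom
  let T := Over.mk b
  let F : T ⟶ X ⊗ X := Over.homMk f
  let x : T ⟶ X := F ≫ fst X X
  let y : T ⟶ X := F ≫ snd X X
  have hxy : F = lift x y := CartesianMonoidalCategory.hom_ext _ _ (by simp [x]) (by simp [y])
  obtain ⟨U, hsep, hkey⟩ := hU K b
  have h1W : (1 : T ⟶ G).left pt ∈ W := by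
    rw [Hom.one_def, Over.comp_left, Scheme.Hom.comp_apply]
    exact hW _
  obtain ⟨g, hgW, hgx, hgy⟩ := exists_translate_of_key a b x y U hkey W h1W
  let Q : T ⟶ G ⊗ (X ⊗ X) := lift g F
  let q := Q.left pt
  -- the open piece of `G ⊗ (X ⊗ X)` over `W`
  let j : pullback (W.ι ≫ G.hom) (X ⊗ X).hom ⟶ (G ⊗ (X ⊗ X)).left :=
    pullback.map _ _ G.hom (X ⊗ X).hom W.ι (𝟙 _) (𝟙 _) (by simp) (by simp)
  obtain ⟨r, hr⟩ : q ∈ Set.range j := by
    rw [show Set.range j = _ from Scheme.Pullback.range_map (W.ι ≫ G.hom) (X ⊗ X).hom G.hom (X ⊗ X).hom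
      W.ι (𝟙 _) (𝟙 _) (by simp) (by simp)]
    refine ⟨?_, ⟨_, rfl⟩⟩
    rw [Scheme.Opens.range_ι]
    change (Q.left ≫ (fst G (X ⊗ X)).left) pt ∈ W
    rw [← Over.comp_left, lift_fst]
    exact hgW
  have hjsnd : j ≫ (snd G (X ⊗ X)).left = pullback.snd _ _ :=
    (pullback.lift_snd _ _ _).trans (Category.comp_id _)
  have hq : (act₂ a).left q ∈ closure (Set.range (pullback.diagonal X.hom)) := by
    have hr' : r ∈ closure (pullback.snd (W.ι ≫ G.hom) (X ⊗ X).hom ⁻¹' Set.range (pullback.diagonal X.hom)) := by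
      rw [← (pullback.snd (W.ι ≫ G.hom) (X ⊗ X).hom).isOpenMap.preimage_closure_eq_closure_preimage
        (pullback.snd (W.ι ≫ G.hom) (X ⊗ X).hom).continuous, Set.mem_preimage]
      rw [← hjsnd, Scheme.Hom.comp_apply, hr, ← Scheme.Hom.comp_apply, ← Over.comp_left, lift_snd]
      change f pt ∈ _
      rwa [hfz]
    rw [← hr, ← Scheme.Hom.comp_apply]
    refine map_mem_closure (j ≫ (act₂ a).left).continuous hr' fun r' hr' => ?_
    rw [Scheme.Hom.comp_apply]
    refine act₂_mem_range a _ ?_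
    rw [← Scheme.Hom.comp_apply, hjsnd]
    exact hr'
  have hQ : Q ≫ act₂ a = lift (lift g x ≫ a.act) (lift g y ≫ a.act) := by
    simp [act₂, Q, x, y, comp_lift, comp_lift_assoc]
  -- transfer to `U ×ₛ U`
  haveI := hsep
  let M : pullback (U.ι ≫ X.hom) (U.ι ≫ X.hom) ⟶ P :=
    pullback.map _ _ X.hom X.hom U.ι U.ι (𝟙 _) (by simp) (by simp)
  haveI : IsOpenImmersion M := inferInstance
  obtain ⟨w, hw⟩ : (act₂ a).left q ∈ Set.range M := by
    rw [show Set.range M = _ from Scheme.Pullback.range_map (U.ι ≫ X.hom) (U.ι ≫ X.hom) X.hom X.hom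
      U.ι U.ι (𝟙 _) (by simp) (by simp)]
    change (Q.left ≫ (act₂ a).left) pt ∈ _
    rw [← Over.comp_left, hQ, Scheme.Opens.range_ι]
    constructor
    · change ((lift (lift g x ≫ a.act) (lift g y ≫ a.act)).left ≫ (fst X X).left) pt ∈ U
      rw [← Over.comp_left, lift_fst]
      exact hgx
    · change ((lift (lift g x ≫ a.act) (lift g y ≫ a.act)).left ≫ (snd X X).left) pt ∈ U
      rw [← Over.comp_left, lift_snd]
      exact hgy
  have hdM : pullback.diagonal (U.ι ≫ X.hom) ≫ M = U.ι ≫ pullback.diagonal X.hom := by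
    apply pullback.hom_ext <;> simp [M]
  have hMrange : M ⁻¹' Set.range (pullback.diagonal X.hom) ⊆ Set.range (pullback.diagonal (U.ι ≫ X.hom)) := by
    rintro v ⟨x', hx'⟩
    have hx'U : x' ∈ Set.range U.ι := by
      refine ⟨(pullback.fst (U.ι ≫ X.hom) (U.ι ≫ X.hom)) v, ?_⟩
      have := congr((pullback.fst X.hom X.hom) $hx')
      have hM : M ≫ pullback.fst X.hom X.hom = pullback.fst _ _ ≫ U.ι := pullback.lift_fst _ _ _
      rw [← Scheme.Hom.comp_apply, pullback.diagonal_fst] at this
      rw [← Scheme.Hom.comp_apply]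
      rw [← hM]
      exact this.symm
    obtain ⟨u, rfl⟩ := hx'U
    refine ⟨u, M.isOpenEmbedding.injective ?_⟩
    rw [← hx', ← Scheme.Hom.comp_apply, hdM, Scheme.Hom.comp_apply]
    rfl
  have hfin : (act₂ a).left q ∈ Set.range (pullback.diagonal X.hom) := by
    have hw' : w ∈ closure (M ⁻¹' Set.range (pullback.diagonal X.hom)) := by
      rw [← M.isOpenEmbedding.isOpenMap.preimage_closure_eq_closure_preimage M.continuous, Set.mem_preimage, hw]
      exact hq
    obtain ⟨u, hu⟩ := closure_minimal hMrange (pullback.diagonal (U.ι ≫ X.hom)).isClosedEmbedding.isClosed_range hw'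
    refine ⟨U.ι u, ?_⟩
    rw [← hw, ← hu, ← Scheme.Hom.comp_apply, ← Scheme.Hom.comp_apply, hdM]
    rfl
  have hgxy : lift g x ≫ a.act = lift g y ≫ a.act := by
    rw [← mem_range_diagonal_iff b]
    change (lift (lift g x ≫ a.act) (lift g y ≫ a.act)).left pt ∈ _
    rw [← hQ, Over.comp_left, Scheme.Hom.comp_apply]
    exact hfin
  have hxeq : x = y := by
    have h := congr(lift g⁻¹ $hgxy ≫ a.act)
    simpa [← act_mul, act_one] using h
  rw [← hfz]
  change (F.left) pt ∈ _
  rw [hxy]
  exact (mem_range_diagonal_iff b x y).mpr hxeq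


theorem isSeparated_of_action [LocallyOfFiniteType G.hom] (W : G.left.Opens)
    (hW : ∀ p : ↥(𝟙_ (Over S)).left, η[G].left p ∈ W) [UniversallyOpen (W.ι ≫ G.hom)]
    (hΦ : Surjective (lift a.act (snd G X)).left)
    (hft : ∀ s : S, LocallyOfFiniteType (X.hom.fiberToSpecResidueField s))
    (hU : ∀ s : S, ∃ U : X.left.Opens, IsSeparated (U.ι ≫ X.hom) ∧
      X.hom ⁻¹' {s} ⊆ closure ((U : Set X.left) ∩ X.hom ⁻¹' {s})) :
    IsSeparated X.hom := by
  refine isSeparated_of_key a W hW fun K _ _ b => ?_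
  obtain ⟨U, hsep, hdU⟩ := hU (b (IsLocalRing.closedPoint K))
  obtain ⟨hN, hd⟩ := dense_fibre b (hft _) (U : Set X.left) hdU
  exact ⟨U, hsep, key_of_dense a b hΦ U hd⟩

end GrothLib.SepAct
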