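import Groth.Agent.Lib.SepAct.Saturate

/-!
In a group scheme the product of two opens dense in a fibre is the whole fibre.
-/

universe u

open CategoryTheory CategoryTheory.Limits MonoidalCategory CartesianMonoidalCategory MonObj GrpObj
open AlgebraicGeometry Topology

set_option backward.isDefEq.respectTransparency false

noncomputable section

namespace GrothLib.SepAct

variable {S : Scheme.{u}}

/-- An open dense in a fibre is dense after extension to a field. -/
theorem dense_preimage_of_fibre {Y : Over S} {K : Type u} [Field K] (b : Spec (CommRingCat.of K) ⟶ S)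
    (U : Set Y.left)
    (hd : Y.hom ⁻¹' {b (IsLocalRing.closedPoint K)} ⊆
      closure (U ∩ Y.hom ⁻¹' {b (IsLocalRing.closedPoint K)})) :
    Dense ((fst Y (Over.mk b)).left ⁻¹' U) := by
  obtain ⟨π, β, hπ, hπo, -, -, -⟩ := exists_fibreMap b Y
  haveI := hπo
  have hUs : Dense (Y.hom.fiberι (b (IsLocalRing.closedPoint K)) ⁻¹' U) := fun w => by
    rw [(Y.hom.fiberι _).isEmbedding.isInducing.closure_eq_preimage_closure_image,
      Set.mem_preimage, Set.image_preimage_eq_inter_range, Scheme.Hom.range_fiberι]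
    exact hd ((Y.hom.range_fiberι _).le ⟨w, rfl⟩)
  rw [← hπ]
  exact hUs.preimage π.isOpenMap

/-- The product of two opens dense in the fibre of a point contains the point. -/
theorem exists_mul_mem_of_dense_fibre (G : Over S) [GrpObj G] (U V : Set G.left) (hUo : IsOpen U)
    (g : G.left) (hU : G.hom ⁻¹' {G.hom g} ⊆ closure (U ∩ G.hom ⁻¹' {G.hom g}))
    (hV : G.hom ⁻¹' {G.hom g} ⊆ closure (V ∩ G.hom ⁻¹' {G.hom g})) :
    ∃ q : ↥(G ⊗ G).left, (fst G G).left q ∈ U ∧ (snd G G).left q ∈ V ∧ μ[G].left q = g := by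
  let b : Spec (G.left.residueField g) ⟶ S := G.left.fromSpecResidueField g ≫ G.hom
  let T : Over S := Over.mk b
  let x : T ⟶ G := Over.homMk (G.left.fromSpecResidueField g) rfl
  have hb : b (IsLocalRing.closedPoint (G.left.residueField g)) = G.hom g :=
    congrArg G.hom (G.left.fromSpecResidueField_apply g _)
  have hUd : Dense ((fst G T).left ⁻¹' U) := dense_preimage_of_fibre b U (hb ▸ hU)
  have hVd : Dense ((fst G T).left ⁻¹' V) := dense_preimage_of_fibre b V (hb ▸ hV)
  let θ : G ⊗ T ≅ G ⊗ T :=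
    { hom := lift ((fst G T)⁻¹ * (snd G T ≫ x)) (snd G T)
      inv := lift ((snd G T ≫ x) * (fst G T)⁻¹) (snd G T)
      hom_inv_id := by apply CartesianMonoidalCategory.hom_ext <;> simp [MonObj.comp_mul, GrpObj.comp_inv, mul_inv_cancel_left]
      inv_hom_id := by apply CartesianMonoidalCategory.hom_ext <;> simp [MonObj.comp_mul, GrpObj.comp_inv, mul_assoc] }
  haveI : IsIso θ.hom.left := ((Over.forget S).mapIso θ).isIso_hom
  obtain ⟨w, hw₁, hw₂⟩ : (((fst G T).left ⁻¹' U) ∩ (θ.hom.left ⁻¹' ((fst G T).left ⁻¹' V))).Nonempty := by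
    haveI : Nonempty ↥(G ⊗ T).left := ⟨(lift x (𝟙 T)).left (IsLocalRing.closedPoint (G.left.residueField g))⟩
    exact (hUd.inter_of_isOpen_left (hVd.preimage θ.hom.left.isOpenMap)
      (hUo.preimage (fst G T).left.continuous)).nonempty
  refine ⟨(lift (fst G T) ((fst G T)⁻¹ * (snd G T ≫ x))).left w, ?_, ?_, ?_⟩
  · rw [left_apply (lift_fst _ _) w]; exact hw₁
  · rw [left_apply (lift_snd _ _) w, ← left_apply
      (show θ.hom ≫ fst G T = (fst G T)⁻¹ * (snd G T ≫ x) from lift_fst _ _) w]
    exact hw₂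
  · have e : lift (fst G T) ((fst G T)⁻¹ * (snd G T ≫ x)) ≫ μ[G] = snd G T ≫ x := by
      rw [← Hom.mul_def, mul_inv_cancel_left]
    rw [left_apply e w, Over.comp_left, Scheme.Hom.comp_apply]
    exact G.left.fromSpecResidueField_apply g _

end GrothLib.SepAct
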