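import Groth.Agent.Lib.SepAct.Main
import Groth.Agent.Lib.Rigidity.SmoothGroup
import Mathlib.AlgebraicGeometry.Geometrically.Irreducible

/-!
Connected group schemes have geometrically irreducible fibres, so the fibres of a scheme on which
such a group acts transitively are irreducible.
-/

universe u

open CategoryTheory CategoryTheory.Limits MonoidalCategory CartesianMonoidalCategory MonObj GrpObj
open AlgebraicGeometry Topology

set_option backward.isDefEq.respectTransparency false

namespace GrothLib.SepAct

variable {S : Scheme.{u}} {G X : Over S} [GrpObj G]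

theorem geometricallyIrreducible_fibre [LocallyOfFiniteType G.hom] (s : S)
    (hconn : _root_.IsConnected (G.hom ⁻¹' {s})) :
    GeometricallyIrreducible (G.hom.fiberToSpecResidueField s) := by
  let H := Red.bc (S.fromSpecResidueField s) G
  haveI : LocallyOfFiniteType H.hom :=
    inferInstanceAs (LocallyOfFiniteType (pullback.snd G.hom (S.fromSpecResidueField s)))
  haveI : ConnectedSpace H.left := by
    haveI : ConnectedSpace ↥(G.hom ⁻¹' {s}) := isConnected_iff_connectedSpace.mp hconn
    change ConnectedSpace ↥(G.hom.fiber s)
    exact (G.hom.fiberHomeo s).symm.surjective.connectedSpace (G.hom.fiberHomeo s).symm.continuous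
  haveI := GrothLib.Rigidity.irreducibleSpace_of_connected H
  have h := GrothLib.GrpSchField.geometricallyIrreducible_component H (𝟙 H.left)
    (by
      rw [show Set.range (𝟙 H.left : H.left ⟶ H.left) = Set.univ from Set.range_id,
        irreducibleComponents_eq_singleton]
      exact rfl)
    ⟨_, rfl⟩
  rw [Category.id_comp] at h
  exact h

theorem isPreirreducible_fibre [LocallyOfFiniteType G.hom] (a : AlgGrp.Action G X)
    (hΦ : Surjective (lift a.act (snd G X)).left) (s : S) (hconn : _root_.IsConnected (G.hom ⁻¹' {s})) :
    IsPreirreducible (X.hom ⁻¹' {s}) := by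
  rcases (X.hom ⁻¹' {s}).eq_empty_or_nonempty with he | ⟨x₀, hx₀⟩
  · rw [he]
    exact isPreirreducible_empty
  obtain rfl : X.hom x₀ = s := hx₀
  let b : Spec (X.left.residueField x₀) ⟶ S := X.left.fromSpecResidueField x₀ ≫ X.hom
  let T := Over.mk b
  let x : T ⟶ X := Over.homMk (X.left.fromSpecResidueField x₀)
  have hb : Set.range b = {X.hom x₀} := by
    rw [show Set.range b = X.hom '' Set.range (X.left.fromSpecResidueField x₀) by
      rw [← Set.range_comp]; rfl, Scheme.range_fromSpecResidueField, Set.image_singleton]
  haveI := geometricallyIrreducible_fibre (G := G) (X.hom x₀) hconn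
  let β := Spec.map (X.hom.residueFieldMap x₀)
  have hβ : β ≫ S.fromSpecResidueField (X.hom x₀) = b := Scheme.Hom.SpecMap_residueFieldMap_fromSpecResidueField ..
  haveI : IrreducibleSpace (G ⊗ T).left := by
    let π : pullback G.hom b ⟶ G.hom.fiber (X.hom x₀) :=
      pullback.lift (pullback.fst _ _) (pullback.snd _ _ ≫ β)
        (by rw [Category.assoc, hβ, pullback.condition])
    have h1 : IsPullback π (pullback.snd G.hom b) (G.hom.fiberToSpecResidueField (X.hom x₀)) β := by
      refine IsPullback.of_right (h₁₂ := G.hom.fiberι _) (v₁₃ := G.hom) (h₂₂ := S.fromSpecResidueField _)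
        ?_ ?_ ?_
      · rw [hβ, show π ≫ G.hom.fiberι _ = pullback.fst _ _ from pullback.lift_fst _ _ _]
        exact IsPullback.of_hasPullback G.hom b
      · exact pullback.lift_snd _ _ _
      · exact IsPullback.of_hasPullback G.hom (S.fromSpecResidueField _)
    exact GeometricallyIrreducible.geometrically_irreducibleSpace β π (pullback.snd G.hom b) h1
  haveI := surjective_orbit a T hΦ x
  have hrange : Set.range ((orbit a T x).left ≫ (fst X T).left) = X.hom ⁻¹' {X.hom x₀} := by
    rw [← hb, ← Scheme.Pullback.range_fst, Scheme.Hom.comp_base, TopCat.coe_comp, Set.range_comp,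
      Set.range_eq_univ.mpr (orbit a T x).left.surjective, Set.image_univ]
    rfl
  rw [← hrange, ← Set.image_univ]
  exact ((IrreducibleSpace.isIrreducible_univ _).image _
    ((orbit a T x).left ≫ (fst X T).left).continuous.continuousOn).2

end GrothLib.SepAct
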