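import Groth.Agent.Lib.SepAct.Saturate

/-!
Separatedness and quasi-compactness of a scheme with a transitive action and quasi-separated
connected fibres.
-/

universe u

open CategoryTheory CategoryTheory.Limits MonoidalCategory CartesianMonoidalCategory MonObj GrpObj
open AlgebraicGeometry Topology

set_option backward.isDefEq.respectTransparency false

open scoped Classical

namespace GrothLib.SepAct

open GrothLib.GrpSchField

variable {S : Scheme.{u}} {G X : Over S} [GrpObj G] [LocallyOfFiniteType G.hom] (a : AlgGrp.Action G X)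
  (W : G.left.Opens) (hW : ∀ p : ↥(𝟙_ (Over S)).left, η[G].left p ∈ W)
  (hΦ : Surjective (lift a.act (snd G X)).left)
  (hqs : ∀ s : S, QuasiSeparatedSpace ↥(X.hom ⁻¹' {s}))
  (hconn : ∀ s : S, _root_.IsPreconnected (X.hom ⁻¹' {s}))

include hW hΦ hqs hconn

theorem isSeparated_of_qs_connected [UniversallyOpen (W.ι ≫ G.hom)] : IsSeparated X.hom := by
  refine isSeparated_of_key a W hW fun K _ _ b => ?_
  let s := b (IsLocalRing.closedPoint K)
  rcases (X.hom ⁻¹' {s}).eq_empty_or_nonempty with he | ⟨p, hp⟩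
  · refine ⟨⊥, ?_, fun z => ?_⟩
    · haveI : IsEmpty (⊥ : X.left.Opens).toScheme := ⟨fun p => p.2⟩
      infer_instance
    · refine (he.le (show z.left (IsLocalRing.closedPoint K) ∈ X.hom ⁻¹' {s} from ?_)).elim
      rw [Set.mem_preimage, ← Scheme.Hom.comp_apply, Over.w z]
      rfl
  · have hps : X.hom p = s := hp
    obtain ⟨_, ⟨S₀, hS₀, rfl⟩, hsS₀, -⟩ := S.isBasis_affineOpens.exists_subset_of_mem_open
      (Set.mem_univ (X.hom p)) isOpen_univ
    obtain ⟨_, ⟨U, hU, rfl⟩, hpU, hUS₀⟩ := X.left.isBasis_affineOpens.exists_subset_of_mem_open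
      (show p ∈ X.hom ⁻¹ᵁ S₀ from hsS₀) (X.hom ⁻¹ᵁ S₀).2
    haveI : IsAffine (Scheme.Opens.toScheme U) := hU
    exact ⟨U, inferInstance, fun z => key_of_connected b a hΦ z (hqs _) (hconn _) hS₀ (show s ∈ S₀ from hps ▸ hsS₀) hU hUS₀
      ⟨p, hpU, hps⟩⟩

theorem isCompact_preimage_of_qs_connected (S₀ : S.Opens) (hS₀ : IsAffineOpen S₀) (VS : X.left.Opens)
    (hVSc : IsCompact (VS : Set X.left)) (hVSle : VS ≤ X.hom ⁻¹ᵁ S₀)
    (hV : ∀ s ∈ S₀, (X.hom ⁻¹' {s}).Nonempty → ((VS : Set X.left) ∩ X.hom ⁻¹' {s}).Nonempty) :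
    IsCompact (X.hom ⁻¹' (S₀ : Set S)) := by
  haveI : IsAffine S₀.toScheme := hS₀
  -- a compact open neighbourhood of the unit over `S₀`
  let e : S ⟶ G.left := η[G].left
  have heG : e ≫ G.hom = 𝟙 S := Over.w η[G]
  have hcov : e '' (S₀ : Set S) ⊆ ⋃ A : G.left.affineOpens,
      {x | x ∈ A.1 ∧ (A.1 : Set G.left) ⊆ G.hom ⁻¹' S₀} := by
    rintro _ ⟨t, ht, rfl⟩
    obtain ⟨_, ⟨A, hA, rfl⟩, htA, hAS⟩ := G.left.isBasis_affineOpens.exists_subset_of_mem_open
      (show e t ∈ G.hom ⁻¹ᵁ S₀ by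
        change (e ≫ G.hom) t ∈ S₀
        rw [heG]
        exact ht) (G.hom ⁻¹ᵁ S₀).2
    exact Set.mem_iUnion.mpr ⟨⟨A, hA⟩, htA, hAS⟩
  obtain ⟨I, hI⟩ := (hS₀.isCompact.image e.continuous).elim_finite_subcover _ (fun A => by
    by_cases h : (A.1 : Set G.left) ⊆ G.hom ⁻¹' S₀
    · simpa [h] using A.1.2
    · simp [h]) hcov
  let W₀ : G.left.Opens := ⨆ A ∈ I.filter (fun A : G.left.affineOpens => (A.1 : Set G.left) ⊆ G.hom ⁻¹' S₀), A.1
  have hW₀e : ∀ t ∈ S₀, e t ∈ W₀ := by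
    intro t ht
    obtain ⟨A, hA, htA, hAS⟩ := Set.mem_iUnion₂.mp (hI ⟨t, ht, rfl⟩)
    simp only [W₀, TopologicalSpace.Opens.mem_iSup]
    exact ⟨A, Finset.mem_filter.mpr ⟨hA, hAS⟩, htA⟩
  have hW₀c : IsCompact (W₀ : Set G.left) := by
    simp only [W₀, TopologicalSpace.Opens.coe_iSup]
    exact Finset.isCompact_biUnion _ fun A _ => A.2.isCompact
  have hW₀S : (W₀ : Set G.left) ⊆ G.hom ⁻¹' S₀ := by
    simp only [W₀, TopologicalSpace.Opens.coe_iSup]
    exact Set.iUnion₂_subset fun A hA => (Finset.mem_filter.mp hA).2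
  -- the compact set of pairs
  have hP : IsCompact ((fst G X).left ⁻¹' (W₀ : Set G.left) ∩ (snd G X).left ⁻¹' (VS : Set X.left)) := by
    haveI : CompactSpace W₀.toScheme := isCompact_iff_compactSpace.mp hW₀c
    haveI : CompactSpace VS.toScheme := isCompact_iff_compactSpace.mp hVSc
    have hf : Set.range (W₀.ι ≫ G.hom) ⊆ Set.range S₀.ι := by
      rintro _ ⟨w, rfl⟩
      rw [Scheme.Opens.range_ι]
      exact hW₀S w.2
    have hg : Set.range (VS.ι ≫ X.hom) ⊆ Set.range S₀.ι := by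
      rintro _ ⟨w, rfl⟩
      rw [Scheme.Opens.range_ι]
      exact hVSle w.2
    let f₀ := IsOpenImmersion.lift S₀.ι (W₀.ι ≫ G.hom) hf
    let g₀ := IsOpenImmersion.lift S₀.ι (VS.ι ≫ X.hom) hg
    haveI : QuasiCompact f₀ := (quasiCompact_iff_compactSpace _).mpr inferInstance
    haveI : CompactSpace ↥(pullback f₀ g₀) := inferInstance
    let J := pullback.map f₀ g₀ G.hom X.hom W₀.ι VS.ι S₀.ι (IsOpenImmersion.lift_fac ..) (IsOpenImmersion.lift_fac ..)
    have hJ : Set.range J = _ := Scheme.Pullback.range_map f₀ g₀ G.hom X.hom W₀.ι VS.ι S₀.ι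
      (IsOpenImmersion.lift_fac ..) (IsOpenImmersion.lift_fac ..)
    have h := isCompact_range J.continuous
    rw [hJ, Scheme.Opens.range_ι, Scheme.Opens.range_ι] at h
    exact h
  let φ : G ⊗ X ⟶ X := lift (fst G X)⁻¹ (snd G X) ≫ a.act
  have himg : (X.hom ⁻¹' S₀ : Set X.left) =
      φ.left '' ((fst G X).left ⁻¹' (W₀ : Set G.left) ∩ (snd G X).left ⁻¹' (VS : Set X.left)) := by
    refine Set.Subset.antisymm (fun p hp => ?_) ?_
    · let K := AlgebraicClosure (X.left.residueField p)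
      let f : Spec (CommRingCat.of K) ⟶ X.left :=
        Spec.map (CommRingCat.ofHom (algebraMap (X.left.residueField p) K)) ≫ X.left.fromSpecResidueField p
      let pt : Spec (CommRingCat.of K) := IsLocalRing.closedPoint K
      have hfp : f pt = p := by
        simp only [f, Scheme.Hom.comp_apply]
        exact X.left.fromSpecResidueField_apply p _
      let b : Spec (CommRingCat.of K) ⟶ S := f ≫ X.hom
      let T := Over.mk b
      let z : T ⟶ X := Over.homMk f
      have hbp : b pt = X.hom p := by rw [Scheme.Hom.comp_apply, hfp]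
      obtain ⟨u, huS, hus⟩ := hV (b pt) (hbp ▸ hp) ⟨p, hbp.symm⟩
      obtain ⟨_, ⟨U, hU, rfl⟩, huU, hUS⟩ := X.left.isBasis_affineOpens.exists_subset_of_mem_open huS VS.2
      have hk := key_of_connected b a hΦ z (hqs _) (hconn _) hS₀ (hbp ▸ hp) hU
        (fun x hx => hVSle (hUS hx)) ⟨u, huU, hus⟩
      have he : ptOf b (1 : T ⟶ G) ∈ (fst G T).left ⁻¹' (W₀ : Set G.left) := by
        change ((lift (1 : T ⟶ G) (𝟙 T)).left ≫ (fst G T).left) pt ∈ W₀
        rw [← Over.comp_left, lift_fst, Hom.one_def, Over.comp_left, Scheme.Hom.comp_apply]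
        refine hW₀e _ ?_
        change b pt ∈ S₀
        rw [hbp]; exact hp
      obtain ⟨q, -, hqU, hqW⟩ := isIrreducible_irreducibleComponent.2 _ _
        (((fst X T).left ⁻¹ᵁ U).2.preimage (orbit a T z).left.continuous)
        (W₀.2.preimage (fst G T).left.continuous) hk ⟨_, mem_irreducibleComponent, he⟩
      let m : G ⊗ T ⟶ G ⊗ X := lift (fst G T) (lift (fst G T) (snd G T ≫ z) ≫ a.act)
      refine ⟨m.left q, ⟨?_, ?_⟩, ?_⟩
      · rw [Set.mem_preimage, left_apply (show m ≫ fst G X = fst G T from lift_fst _ _) q]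
        exact hqW
      · rw [Set.mem_preimage, left_apply₂ (show m ≫ snd G X = orbit a T z ≫ fst X T by simp [m, orbit]) q]
        exact hUS hqU
      · have e1 : m ≫ φ = snd G T ≫ z := by
          simp [m, φ, comp_lift_assoc, GrpObj.comp_inv, ← act_mul, act_one]
        rw [left_apply e1 q, Over.comp_left, Scheme.Hom.comp_apply,
          show (snd G T).left q = pt from Subsingleton.elim (α := PrimeSpectrum K) _ _]
        exact hfp
    · rintro _ ⟨q, ⟨-, hq⟩, rfl⟩
      change X.hom (φ.left q) ∈ S₀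
      rw [← Scheme.Hom.comp_apply, Over.w φ, ← Over.w (snd G X), Scheme.Hom.comp_apply]
      exact hVSle hq
  have h := hP.image φ.left.continuous
  rw [← himg] at h
  exact h

theorem quasiCompact_of_qs_connected (V : X.left.Opens) [QuasiCompact (V.ι ≫ X.hom)]
    (hV : ∀ s : S, (X.hom ⁻¹' {s}).Nonempty → ((V : Set X.left) ∩ X.hom ⁻¹' {s}).Nonempty) :
    QuasiCompact X.hom := by
  rw [quasiCompact_iff_forall_isAffineOpen]
  intro S₀ hS₀
  refine isCompact_preimage_of_qs_connected a W hW hΦ hqs hconn S₀ hS₀ (V ⊓ X.hom ⁻¹ᵁ S₀) ?_ inf_le_right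
    fun s hs hne => ?_
  · have h := ((quasiCompact_iff_forall_isAffineOpen (f := V.ι ≫ X.hom)).mp inferInstance S₀ hS₀).image
      V.ι.continuous
    convert h using 1
    rw [show ((V.ι ≫ X.hom) ⁻¹ᵁ S₀ : Set V.toScheme) = V.ι ⁻¹' (X.hom ⁻¹' S₀) from rfl,
      Set.image_preimage_eq_inter_range, Scheme.Opens.range_ι, Set.inter_comm]
    rfl
  · obtain ⟨u, huV, hus⟩ := hV s hne
    exact ⟨u, ⟨huV, show X.hom u ∈ S₀ from hus.symm ▸ hs⟩, hus⟩

end GrothLib.SepAct
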