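import Groth.Agent.Lib.GrpSchField.Components
import Groth.Agent.Lib.GrpSchField.Shear
import Groth.Agent.Lib.GrpSchField.Pts
import Groth.Prelude.Def_Red
import Groth.Prelude.Def_AlgGrp
import Mathlib.AlgebraicGeometry.Morphisms.UnderlyingMap

/-!
Over an algebraically closed field a transitive action moves any two points into a dense open
simultaneously, by one element of a given neighbourhood of the unit.
-/

universe u

open CategoryTheory CategoryTheory.Limits MonoidalCategory CartesianMonoidalCategory MonObj GrpObj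
open AlgebraicGeometry Topology

set_option backward.isDefEq.respectTransparency false

namespace GrothLib.SepAct

open GrothLib.GrpSchField

variable {S : Scheme.{u}} {G X : Over S} [GrpObj G] (a : AlgGrp.Action G X) (T : Over S)

/-- The orbit map of a point, over the source of the point. -/
noncomputable def orbit (x : T ⟶ X) : G ⊗ T ⟶ X ⊗ T :=
  lift (lift (fst G T) (snd G T ≫ x) ≫ a.act) (snd G T)

/-- Left translation by a point. -/
noncomputable def transL (h : T ⟶ G) : G ⊗ T ≅ G ⊗ T where
  hom := lift ((snd G T ≫ h) * fst G T) (snd G T)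
  inv := lift ((snd G T ≫ h⁻¹) * fst G T) (snd G T)
  hom_inv_id := by
    ext <;> simp [MonObj.comp_mul, GrpObj.comp_inv]
  inv_hom_id := by
    ext <;> simp [MonObj.comp_mul, GrpObj.comp_inv]

/-- Translation of the acted-on scheme by a point. -/
noncomputable def transX (h : T ⟶ G) : X ⊗ T ≅ X ⊗ T where
  hom := lift (lift (snd X T ≫ h) (fst X T) ≫ a.act) (snd X T)
  inv := lift (lift (snd X T ≫ h⁻¹) (fst X T) ≫ a.act) (snd X T)
  hom_inv_id := by
    apply hom_ext_points₂
    intro R p q
    simp [comp_lift_assoc, ← act_mul, GrpObj.comp_inv, act_one]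
  inv_hom_id := by
    apply hom_ext_points₂
    intro R p q
    simp [comp_lift_assoc, ← act_mul, GrpObj.comp_inv, act_one]

theorem transL_orbit (h : T ⟶ G) (x : T ⟶ X) :
    (transL T h).hom ≫ orbit a T x = orbit a T x ≫ (transX a T h).hom := by
  apply hom_ext_points₂
  intro R p q
  simp [transL, transX, orbit, comp_lift_assoc, MonObj.comp_mul, act_mul]

theorem surjective_orbit (hΦ : Surjective (lift a.act (snd G X)).left) (x : T ⟶ X) :
    Surjective (orbit a T x).left := by
  let j : X ⊗ T ⟶ X ⊗ X := lift (fst X T) (snd X T ≫ x)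
  let i : G ⊗ T ⟶ G ⊗ X := lift (fst G T) (snd G T ≫ x)
  have hw : orbit a T x ≫ j = i ≫ lift a.act (snd G X) := by
    simp [orbit, i, j, comp_lift, comp_lift_assoc]
  have sq : IsPullback (orbit a T x) i j (lift a.act (snd G X)) := by
    refine IsPullback.of_isLimit' ⟨hw⟩ (PullbackCone.IsLimit.mk _
      (fun s => lift (s.snd ≫ fst G X) (s.fst ≫ snd X T)) (fun s => ?_) (fun s => ?_) (fun s m h₁ h₂ => ?_))
    · have h1 := s.condition =≫ fst X X
      have h2 := s.condition =≫ snd X X
      simp [j] at h1 h2
      refine CartesianMonoidalCategory.hom_ext _ _ ?_ (by simp [orbit])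
      simp only [orbit, Category.assoc, lift_fst, comp_lift_assoc, lift_snd_assoc, Category.assoc]
      rw [h2, h1]
      conv_rhs => rw [← lift_fst_snd_comp s.snd]
    · have h2 := s.condition =≫ snd X X
      simp [j] at h2
      refine CartesianMonoidalCategory.hom_ext _ _ (by simp [i]) ?_
      simp [i, h2]
    · refine CartesianMonoidalCategory.hom_ext _ _ ?_ ?_
      · simp [← h₂, i]
      · simp [← h₁, orbit]
  exact MorphismProperty.of_isPullback (P := @Surjective) (sq.map (Over.forget S)).flip hΦ

section Field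

variable {K : Type u} [Field K]

theorem subset_irreducibleComponent {P : Over (Spec (CommRingCat.of K))} [GrpObj P] {s : Set P.left}
    (hs : IsIrreducible s) {q : P.left} (hq : q ∈ s) : s ⊆ irreducibleComponent q := by
  obtain ⟨t, ht, hle, hmax⟩ := exists_preirreducible s hs.2
  have ht' : t ∈ irreducibleComponents P.left :=
    ⟨⟨⟨q, hle hq⟩, ht⟩, fun u hu h => (hmax u hu.2 h).le⟩
  rw [irreducibleComponent_eq_of_mem P (irreducibleComponent_mem_irreducibleComponents q) ht'
    mem_irreducibleComponent (hle hq)]
  exact hle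

theorem mem_of_dense_of_maximal {P : Scheme.{u}} [IsLocallyNoetherian P] {U : Set P} (hU : IsOpen U) (hd : Dense U)
    {w : P} (hw : ∀ z, z ⤳ w → w ⤳ z) : w ∈ U := by
  obtain ⟨_, ⟨V₀, hV, rfl⟩, hwV, -⟩ := P.isBasis_affineOpens.exists_subset_of_mem_open (Set.mem_univ w) isOpen_univ
  let V : P.Opens := V₀
  haveI : IsNoetherianRing Γ(P, V) := IsLocallyNoetherian.component_noetherian ⟨V, hV⟩
  haveI : IsAffine V.toScheme := hV
  haveI : IsNoetherian V.toScheme := by
    have : CompactSpace V.toScheme := isCompact_iff_compactSpace.mp hV.isCompact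
    exact {}
  obtain ⟨w', rfl⟩ : w ∈ Set.range V.ι := by rwa [Scheme.Opens.range_ι]
  obtain ⟨z, hz⟩ := QuasiSober.sober (isIrreducible_irreducibleComponent (x := w')) isClosed_irreducibleComponent
  have hzw : z ⤳ w' := hz.specializes mem_irreducibleComponent
  have hwz : w' ⤳ z := V.ι.isOpenEmbedding.isInducing.specializes_iff.mp (hw _ (hzw.map V.ι.continuous))
  obtain ⟨o, ho, hne, hsub⟩ := TopologicalSpace.NoetherianSpace.exists_isOpen_nonempty_subset_irreducibleComponent
    _ (irreducibleComponent_mem_irreducibleComponents w')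
  obtain ⟨_, ⟨u, hu, rfl⟩, huU⟩ := hd.inter_open_nonempty _ (V.ι.isOpenEmbedding.isOpenMap o ho) (hne.image _)
  have hwu : w' ⤳ u := hwz.trans (hz.specializes (hsub hu))
  exact (hwu.map V.ι.continuous).mem_open hU huU

end Field

variable {K : Type u} [Field K] [IsAlgClosed K] (b : Spec (CommRingCat.of K) ⟶ S)

/-- A closed point of the fibre of `G` is given by a point. -/
theorem exists_point_of_closed [LocallyOfFiniteType (pullback.snd G.hom b)] {c : ↥(G ⊗ Over.mk b).left} (hc : IsClosed {c}) :
    ∃ h : Over.mk b ⟶ G, (lift h (𝟙 (Over.mk b))).left (IsLocalRing.closedPoint K) = c := by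
  let T := Over.mk b
  let p : (G ⊗ T).left ⟶ Spec (CommRingCat.of K) := (snd G T).left
  haveI : LocallyOfFiniteType p := inferInstanceAs (LocallyOfFiniteType (pullback.snd G.hom b))
  let s := pointOfClosedPoint p c hc
  have hs : s ≫ p = 𝟙 _ := pointOfClosedPoint_comp p c hc
  let σ : T ⟶ G ⊗ T := Over.homMk s (by
    rw [← Over.w (snd G T), ← Category.assoc]
    change (s ≫ p) ≫ T.hom = T.hom
    rw [hs, Category.id_comp])
  have hσ : σ ≫ snd G T = 𝟙 T := Over.OverMorphism.ext hs
  refine ⟨σ ≫ fst G T, ?_⟩
  rw [show lift (σ ≫ fst G T) (𝟙 T) = σ from CartesianMonoidalCategory.hom_ext _ _ (by simp) (by simp [hσ])]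
  exact pointOfClosedPoint_apply p c hc _

/-- Two points are moved into an open by one point near the unit, given that the translates of the
open under the unit component are everything. -/
theorem exists_translate_of_key [LocallyOfFiniteType G.hom]
    (x y : Over.mk b ⟶ X) (U : X.left.Opens)
    (key : ∀ z : Over.mk b ⟶ X,
      (irreducibleComponent ((lift (1 : Over.mk b ⟶ G) (𝟙 (Over.mk b))).left (IsLocalRing.closedPoint K)) ∩
        (orbit a (Over.mk b) z).left ⁻¹' ((fst X (Over.mk b)).left ⁻¹' (U : Set X.left))).Nonempty)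
    (W : G.left.Opens)
    (hW : (1 : Over.mk b ⟶ G).left (IsLocalRing.closedPoint K) ∈ W) :
    ∃ g : Over.mk b ⟶ G, g.left (IsLocalRing.closedPoint K) ∈ W ∧
      (lift g x ≫ a.act).left (IsLocalRing.closedPoint K) ∈ U ∧
      (lift g y ≫ a.act).left (IsLocalRing.closedPoint K) ∈ U := by
  let T := Over.mk b
  let pt : T.left := IsLocalRing.closedPoint K
  let UK : Set (X ⊗ T).left := (fst X T).left ⁻¹' (U : Set X.left)
  have hUK : IsOpen UK := U.2.preimage (fst X T).left.continuous
  let e : ↥(G ⊗ T).left := (lift (1 : T ⟶ G) (𝟙 T)).left pt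
  haveI : GrpObj (Red.bc b G) := inferInstance
  haveI : LocallyOfFiniteType (Red.bc b G).hom := inferInstanceAs (LocallyOfFiniteType (pullback.snd G.hom b))
  let C0 : Set ↥(G ⊗ T).left := irreducibleComponent e
  have hC0 : IsOpen C0 := isOpen_of_mem_irreducibleComponents (Red.bc b G)
    (irreducibleComponent_mem_irreducibleComponents (X := ↥(Red.bc b G).left) e)
  have hJ : JacobsonSpace ↥(G ⊗ T).left :=
    LocallyOfFiniteType.jacobsonSpace (pullback.snd G.hom b)
  have heW : e ∈ (fst G T).left ⁻¹' (W : Set G.left) := by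
    change ((lift (1 : T ⟶ G) (𝟙 T)).left ≫ (fst G T).left) pt ∈ W
    rw [← Over.comp_left, lift_fst]
    exact hW
  have hirr : IsIrreducible C0 := isIrreducible_irreducibleComponent
  have h12 := hirr.2 _ _ (hUK.preimage (orbit a T x).left.continuous) (hUK.preimage (orbit a T y).left.continuous)
    (key x) (key y)
  have h123 := hirr.2 _ _ (W.2.preimage (fst G T).left.continuous)
    ((hUK.preimage (orbit a T x).left.continuous).inter (hUK.preimage (orbit a T y).left.continuous))
    ⟨e, mem_irreducibleComponent, heW⟩ h12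
  obtain ⟨c, ⟨-, hcW, hcx, hcy⟩, hc⟩ := nonempty_inter_closedPoints h123
    (hC0.inter ((W.2.preimage (fst G T).left.continuous).inter
      ((hUK.preimage (orbit a T x).left.continuous).inter (hUK.preimage (orbit a T y).left.continuous)))).isLocallyClosed
  obtain ⟨g, hg⟩ := exists_point_of_closed (G := G) b hc
  have hread : ∀ z : T ⟶ X, (orbit a T z).left c ∈ UK → (lift g z ≫ a.act).left pt ∈ U := by
    intro z hz
    have hcomp : lift g (𝟙 T) ≫ orbit a T z ≫ fst X T = lift g z ≫ a.act := by
      simp [orbit, comp_lift_assoc]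
      erw [Category.id_comp]
    rw [← hcomp]
    simp only [Over.comp_left, Scheme.Hom.comp_apply]
    rw [show (lift g (𝟙 T)).left pt = c from hg]
    exact hz
  refine ⟨g, ?_, hread x hcx, hread y hcy⟩
  have hcomp : lift g (𝟙 T) ≫ fst G T = g := lift_fst _ _
  rw [← hcomp, Over.comp_left, Scheme.Hom.comp_apply, hg]
  exact hcW


/-- Translates of a dense open under the unit component are everything. -/
theorem key_of_dense [LocallyOfFiniteType G.hom] (hΦ : Surjective (lift a.act (snd G X)).left)
    [IsLocallyNoetherian (X ⊗ Over.mk b).left] (U : X.left.Opens)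
    (hd : Dense ((fst X (Over.mk b)).left ⁻¹' (U : Set X.left))) (z : Over.mk b ⟶ X) :
    (irreducibleComponent ((lift (1 : Over.mk b ⟶ G) (𝟙 (Over.mk b))).left (IsLocalRing.closedPoint K)) ∩
        (orbit a (Over.mk b) z).left ⁻¹' ((fst X (Over.mk b)).left ⁻¹' (U : Set X.left))).Nonempty := by
  let T := Over.mk b
  let pt : T.left := IsLocalRing.closedPoint K
  let UK : Set (X ⊗ T).left := (fst X T).left ⁻¹' (U : Set X.left)
  have hUK : IsOpen UK := U.2.preimage (fst X T).left.continuous
  let e : ↥(G ⊗ T).left := (lift (1 : T ⟶ G) (𝟙 T)).left pt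
  haveI : GrpObj (Red.bc b G) := inferInstance
  haveI : LocallyOfFiniteType (Red.bc b G).hom := inferInstanceAs (LocallyOfFiniteType (pullback.snd G.hom b))
  let C0 : Set ↥(G ⊗ T).left := irreducibleComponent e
  have hC0 : IsOpen C0 := isOpen_of_mem_irreducibleComponents (Red.bc b G)
    (irreducibleComponent_mem_irreducibleComponents (X := ↥(Red.bc b G).left) e)
  have hJ : JacobsonSpace ↥(G ⊗ T).left :=
    LocallyOfFiniteType.jacobsonSpace (pullback.snd G.hom b)
  have key : (C0 ∩ (orbit a T z).left ⁻¹' UK).Nonempty := by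
    haveI := surjective_orbit a T hΦ z
    let x₀ : ↥(X ⊗ T).left := (lift z (𝟙 T)).left pt
    obtain ⟨η₀, hη₀⟩ := QuasiSober.sober (isIrreducible_irreducibleComponent (x := x₀)) isClosed_irreducibleComponent
    obtain ⟨g0, hg0⟩ := (orbit a T z).left.surjective η₀
    let C : Set ↥(G ⊗ T).left := irreducibleComponent g0
    have hC : IsOpen C := isOpen_of_mem_irreducibleComponents (Red.bc b G)
      (irreducibleComponent_mem_irreducibleComponents (X := ↥(Red.bc b G).left) g0)
    obtain ⟨c, hcC, hc⟩ := nonempty_inter_closedPoints (X := ↥(G ⊗ T).left) ⟨g0, mem_irreducibleComponent⟩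
      hC.isLocallyClosed
    obtain ⟨h, hh⟩ := exists_point_of_closed (G := G) b hc
    let L := (Over.forget S).mapIso (transL T h)
    have he : L.inv c = e := by
      change ((transL T h).inv).left c = e
      rw [← hh]
      change ((lift h (𝟙 T)).left ≫ (transL T h).inv.left) pt = e
      rw [← Over.comp_left]
      simp [transL, comp_lift, MonObj.comp_mul, GrpObj.comp_inv, e, pt, T]
    have hg1 : L.inv g0 ∈ C0 := by
      have hirr : IsIrreducible (L.inv '' C) :=
        isIrreducible_irreducibleComponent.image _ L.inv.continuous.continuousOn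
      exact subset_irreducibleComponent (P := Red.bc b G) hirr ⟨c, hcC, he⟩ ⟨g0, mem_irreducibleComponent, rfl⟩
    refine ⟨L.inv g0, hg1, ?_⟩
    have hinv : (transL T h).inv ≫ orbit a T z = orbit a T z ≫ (transX a T h).inv := by
      rw [Iso.inv_comp_eq, ← Category.assoc, transL_orbit, Category.assoc, Iso.hom_inv_id, Category.comp_id]
    have h1 : (orbit a T z).left (L.inv g0) = ((Over.forget S).mapIso (transX a T h)).inv η₀ := by
      rw [← hg0]
      change (((transL T h).inv).left ≫ (orbit a T z).left) g0 = ((orbit a T z).left ≫ (transX a T h).inv.left) g0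
      rw [← Over.comp_left, ← Over.comp_left, hinv]
    rw [Set.mem_preimage, h1]
    refine mem_of_dense_of_maximal hUK hd fun w hw => ?_
    let α := ((Over.forget S).mapIso (transX a T h)).inv.homeomorph
    have hw' : α.symm w ⤳ η₀ := by
      have h3 := hw.map α.symm.continuous
      exact (α.symm_apply_apply η₀) ▸ h3
    have hirr : IsIrreducible (closure {α.symm w}) := isIrreducible_singleton.closure
    have hsub : irreducibleComponent x₀ ⊆ closure {α.symm w} := by
      rw [← hη₀]
      exact hw'.closure_subset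
    have heq := eq_irreducibleComponent hirr.2 hsub
    have h2 : η₀ ⤳ α.symm w := hη₀.specializes (heq ▸ subset_closure rfl)
    simpa [α] using h2.map α.continuous
  exact key

end GrothLib.SepAct
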