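import Groth.Agent.Lib.SepAct.Homog
import Mathlib.AlgebraicGeometry.Morphisms.QuasiCompact
import Mathlib.AlgebraicGeometry.Morphisms.QuasiSeparated
import Mathlib.AlgebraicGeometry.Morphisms.UniversallyOpen
import Mathlib.AlgebraicGeometry.PullbackCarrier

/-!
Over an algebraically closed field: the saturation of a compact open under the identity component
of a transitive group is a compact open, stable under specialization.
-/

universe u

open CategoryTheory CategoryTheory.Limits MonoidalCategory CartesianMonoidalCategory MonObj GrpObj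
open AlgebraicGeometry Topology

set_option backward.isDefEq.respectTransparency false

namespace GrothLib.SepAct

open GrothLib.GrpSchField

variable {S : Scheme.{u}} {G X : Over S} [GrpObj G] (a : AlgGrp.Action G X) (T : Over S)

omit [GrpObj G] in
theorem hom_ext_points₃ {A B C Y : Over S} {f g : A ⊗ (B ⊗ C) ⟶ Y}
    (h : ∀ (R : Over S) (p : R ⟶ A) (q : R ⟶ B) (r : R ⟶ C),
      lift p (lift q r) ≫ f = lift p (lift q r) ≫ g) : f = g := by
  apply hom_ext_points₂
  intro R p u
  have := h R p (u ≫ fst B C) (u ≫ snd B C)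
  rwa [lift_comp_fst_snd] at this

/-- The action over `T`. -/
noncomputable def actT : G ⊗ (X ⊗ T) ⟶ X ⊗ T :=
  lift (lift (fst G (X ⊗ T)) (snd G (X ⊗ T) ≫ fst X T) ≫ a.act) (snd G (X ⊗ T) ≫ snd X T)

/-- The shearing involution `(g, r) ↦ (g⁻¹, g r)`. -/
noncomputable def shearT : G ⊗ (X ⊗ T) ≅ G ⊗ (X ⊗ T) where
  hom := lift (fst G (X ⊗ T))⁻¹ (actT a T)
  inv := lift (fst G (X ⊗ T))⁻¹ (actT a T)
  hom_inv_id := by
    apply hom_ext_points₃
    intro R p q r
    simp [actT, comp_lift_assoc, GrpObj.comp_inv, ← act_mul, act_one]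
  inv_hom_id := by
    apply hom_ext_points₃
    intro R p q r
    simp [actT, comp_lift_assoc, GrpObj.comp_inv, ← act_mul, act_one]

omit [GrpObj G] in
/-- The projection to the base-changed group. -/
noncomputable def projG (G X T : Over S) : G ⊗ (X ⊗ T) ⟶ G ⊗ T :=
  lift (fst G (X ⊗ T)) (snd G (X ⊗ T) ≫ snd X T)

omit [GrpObj G] in
theorem isPullback_projG (G X T : Over S) :
    IsPullback (projG G X T).left (snd G (X ⊗ T)).left (snd G T).left (snd X T).left := by
  have hw : projG G X T ≫ snd G T = snd G (X ⊗ T) ≫ snd X T := by simp [projG]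
  have sq : IsPullback (projG G X T) (snd G (X ⊗ T)) (snd G T) (snd X T) := by
    refine IsPullback.of_isLimit' ⟨hw⟩ (PullbackCone.IsLimit.mk _
      (fun s => lift (s.fst ≫ fst G T) s.snd) (fun s => ?_) (fun s => ?_) (fun s m h₁ h₂ => ?_))
    · refine CartesianMonoidalCategory.hom_ext _ _ (by simp [projG]) ?_
      simp [projG, s.condition]
    · simp
    · refine CartesianMonoidalCategory.hom_ext _ _ ?_ (by simp [← h₂])
      simp [← h₁, projG]
  exact sq.map (Over.forget S)

/-- Translation of pairs by a point. -/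
noncomputable def transP (X : Over S) (h : T ⟶ G) : G ⊗ (X ⊗ T) ⟶ G ⊗ (X ⊗ T) :=
  lift ((snd G (X ⊗ T) ≫ snd X T ≫ h) * fst G (X ⊗ T)) (snd G (X ⊗ T))

theorem transP_projG (h : T ⟶ G) :
    transP T X h ≫ projG G X T = projG G X T ≫ (transL T h).hom := by
  simp [transP, projG, transL, comp_lift, MonObj.comp_mul]

theorem transP_actT (h : T ⟶ G) :
    transP T X h ≫ actT a T = actT a T ≫ (transX a T h).hom := by
  apply hom_ext_points₃
  intro R p q r
  simp [transP, actT, transX, comp_lift_assoc, MonObj.comp_mul, act_mul]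

/-- Right translation by a point. -/
noncomputable def transR (h : T ⟶ G) : G ⊗ T ⟶ G ⊗ T :=
  lift (fst G T * (snd G T ≫ h)) (snd G T)

section Field

variable {K : Type u} [Field K] [IsAlgClosed K] (b : Spec (CommRingCat.of K) ⟶ S)

/-- The point of the fibre given by a point. -/
noncomputable def ptOf {Y : Over S} (h : Over.mk b ⟶ Y) : ↥(Y ⊗ Over.mk b).left :=
  (lift h (𝟙 (Over.mk b))).left (IsLocalRing.closedPoint K)

omit [GrpObj G] [IsAlgClosed K] in
theorem map_ptOf {Y Z : Over S} (h : Over.mk b ⟶ Y) (f : Y ⊗ Over.mk b ⟶ Z ⊗ Over.mk b) (k : Over.mk b ⟶ Z)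
    (hf : lift h (𝟙 _) ≫ f = lift k (𝟙 _)) : f.left (ptOf b h) = ptOf b k := by
  rw [ptOf, ← Scheme.Hom.comp_apply, ← Over.comp_left, hf, ptOf]

omit [IsAlgClosed K] in
theorem transL_ptOf (h k : Over.mk b ⟶ G) : (transL (Over.mk b) h).hom.left (ptOf b k) = ptOf b (h * k) :=
  map_ptOf b _ _ _ (by simp [transL, comp_lift, MonObj.comp_mul])

omit [IsAlgClosed K] in
theorem transR_ptOf (h k : Over.mk b ⟶ G) : (transR (Over.mk b) h).left (ptOf b k) = ptOf b (k * h) :=
  map_ptOf b _ _ _ (by simp [transR, comp_lift, MonObj.comp_mul])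

/-- The component of the unit of the fibre. -/
noncomputable def unitComp (G : Over S) [GrpObj G] : Set ↥(G ⊗ Over.mk b).left :=
  irreducibleComponent (ptOf b (1 : Over.mk b ⟶ G))

variable [LocallyOfFiniteType (pullback.snd G.hom b)]

omit [IsAlgClosed K] in
theorem isOpen_component (w : ↥(G ⊗ Over.mk b).left) : IsOpen (irreducibleComponent w) := by
  haveI : LocallyOfFiniteType (Red.bc b G).hom := inferInstanceAs (LocallyOfFiniteType (pullback.snd G.hom b))
  exact isOpen_of_mem_irreducibleComponents (Red.bc b G)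
    (irreducibleComponent_mem_irreducibleComponents (X := ↥(Red.bc b G).left) w)

omit [IsAlgClosed K] [LocallyOfFiniteType (pullback.snd G.hom b)] in
theorem subset_component {s : Set ↥(G ⊗ Over.mk b).left} (hs : IsIrreducible s) {q : ↥(G ⊗ Over.mk b).left}
    (hq : q ∈ s) : s ⊆ irreducibleComponent q :=
  subset_irreducibleComponent (P := Red.bc b G) hs hq

omit [IsAlgClosed K] [LocallyOfFiniteType (pullback.snd G.hom b)] in
theorem component_eq {q w : ↥(G ⊗ Over.mk b).left} (hq : q ∈ irreducibleComponent w) :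
    irreducibleComponent q = irreducibleComponent w :=
  (irreducibleComponent_eq_of_mem (Red.bc b G) (irreducibleComponent_mem_irreducibleComponents w)
    (irreducibleComponent_mem_irreducibleComponents q) hq mem_irreducibleComponent).symm

omit [IsAlgClosed K] [LocallyOfFiniteType (pullback.snd G.hom b)] in
theorem mul_mem_component {h k : Over.mk b ⟶ G} (hh : ptOf b h ∈ unitComp b G)
    {w : ↥(G ⊗ Over.mk b).left} (hk : ptOf b k ∈ irreducibleComponent w) :
    ptOf b (h * k) ∈ irreducibleComponent w := by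
  rw [← component_eq b hk]
  refine subset_component b (isIrreducible_irreducibleComponent.image _
    (transR (Over.mk b) k).left.continuous.continuousOn) ?_ ⟨_, hh, transR_ptOf b k h⟩
  exact ⟨_, mem_irreducibleComponent, by rw [transR_ptOf, _root_.one_mul]⟩

omit [IsAlgClosed K] [LocallyOfFiniteType (pullback.snd G.hom b)] in
theorem div_mem_unitComp {k k' : Over.mk b ⟶ G} {w : ↥(G ⊗ Over.mk b).left}
    (hk : ptOf b k ∈ irreducibleComponent w) (hk' : ptOf b k' ∈ irreducibleComponent w) :
    ptOf b (k' * k⁻¹) ∈ unitComp b G := by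
  refine subset_component b (isIrreducible_irreducibleComponent.image _
    (transR (Over.mk b) k⁻¹).left.continuous.continuousOn) ?_ ⟨_, hk', transR_ptOf b k⁻¹ k'⟩
  exact ⟨_, hk, by rw [transR_ptOf, mul_inv_cancel]⟩

omit [IsAlgClosed K] in
theorem inv_mem_unitComp {q : ↥(G ⊗ Over.mk b).left} (hq : q ∈ unitComp b G) :
    (lift (fst G (Over.mk b))⁻¹ (snd G (Over.mk b))).left q ∈ unitComp b G := by
  refine subset_component b (isIrreducible_irreducibleComponent.image _
    (lift (fst G (Over.mk b))⁻¹ (snd G (Over.mk b))).left.continuous.continuousOn) ?_ ⟨_, hq, rfl⟩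
  exact ⟨_, mem_irreducibleComponent, map_ptOf b _ _ _ (by simp [comp_lift, GrpObj.comp_inv])⟩

theorem exists_ptOf {c : ↥(G ⊗ Over.mk b).left} (hc : IsClosed {c}) : ∃ h : Over.mk b ⟶ G, ptOf b h = c :=
  exists_point_of_closed b hc

omit [IsAlgClosed K] in
theorem jacobson : JacobsonSpace ↥(G ⊗ Over.mk b).left :=
  LocallyOfFiniteType.jacobsonSpace (pullback.snd G.hom b)

theorem exists_ptOf_mem {s : Set ↥(G ⊗ Over.mk b).left} (hs : IsLocallyClosed s) (hne : s.Nonempty) :
    ∃ h : Over.mk b ⟶ G, ptOf b h ∈ s := by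
  haveI := jacobson (G := G) b
  obtain ⟨c, hcs, hc⟩ := nonempty_inter_closedPoints hne hs
  obtain ⟨h, rfl⟩ := exists_ptOf b hc
  exact ⟨h, hcs⟩

theorem transL_mem_component {h : Over.mk b ⟶ G} (hh : ptOf b h ∈ unitComp b G)
    {w q : ↥(G ⊗ Over.mk b).left} (hq : q ∈ irreducibleComponent w) :
    (transL (Over.mk b) h).hom.left q ∈ irreducibleComponent w := by
  obtain ⟨k, hk⟩ := exists_ptOf_mem b (isOpen_component b w).isLocallyClosed ⟨w, mem_irreducibleComponent⟩
  rw [← component_eq b (mul_mem_component b hh hk)]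
  exact subset_component b (isIrreducible_irreducibleComponent.image _
    (transL (Over.mk b) h).hom.left.continuous.continuousOn) ⟨_, hk, transL_ptOf b h k⟩ ⟨q, hq, rfl⟩

/-- A closed set stable under the unit component contains every component it meets. -/
theorem component_subset_of_isClosed {A : Set ↥(G ⊗ Over.mk b).left} (hA : IsClosed A)
    (hst : ∀ h, ptOf b h ∈ unitComp b G → ∀ q ∈ A, (transL (Over.mk b) h).hom.left q ∈ A)
    {w : ↥(G ⊗ Over.mk b).left} (hw : (A ∩ irreducibleComponent w).Nonempty) :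
    irreducibleComponent w ⊆ A := by
  obtain ⟨k, hkA, hk⟩ := exists_ptOf_mem b (hA.isLocallyClosed.inter (isOpen_component b w).isLocallyClosed) hw
  by_contra hsub
  obtain ⟨k', hk', hk'A⟩ := exists_ptOf_mem b
    ((isOpen_component b w).isLocallyClosed.inter hA.isOpen_compl.isLocallyClosed)
    (Set.not_subset.mp hsub)
  apply hk'A
  have := hst _ (div_mem_unitComp b hk hk') _ hkA
  rwa [transL_ptOf, _root_.mul_assoc, inv_mul_cancel, _root_.mul_one] at this

/-- An open set stable under the unit component contains every component it meets. -/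
theorem component_subset_of_isOpen {A : Set ↥(G ⊗ Over.mk b).left} (hA : IsOpen A)
    (hst : ∀ h, ptOf b h ∈ unitComp b G → ∀ q ∈ A, (transL (Over.mk b) h).hom.left q ∈ A)
    {w : ↥(G ⊗ Over.mk b).left} (hw : (A ∩ irreducibleComponent w).Nonempty) :
    irreducibleComponent w ⊆ A := by
  intro q hq
  by_contra hqA
  obtain ⟨p, hpA, hpw⟩ := hw
  refine component_subset_of_isClosed b hA.isClosed_compl (fun h hh r hr hA' => hr ?_) ⟨q, hqA, hq⟩ hpw hpA
  have hinv : ptOf b h⁻¹ ∈ unitComp b G := by
    have := div_mem_unitComp b (k := h) (k' := 1) hh mem_irreducibleComponent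
    rwa [_root_.one_mul] at this
  have := hst _ hinv _ hA'
  rw [← Scheme.Hom.comp_apply, ← Over.comp_left] at this
  rwa [show (transL (Over.mk b) h).hom ≫ (transL (Over.mk b) h⁻¹).hom = 𝟙 _ from
    (by simp [transL] : (transL (Over.mk b) h⁻¹).hom = (transL (Over.mk b) h).inv) ▸ Iso.hom_inv_id _] at this

variable (x : Over.mk b ⟶ X)
include x

/-- Images of generic points of components are maximal for generization. -/
theorem maximal_orbit_generic (hΦ : Surjective (lift a.act (snd G X)).left) {g c : ↥(G ⊗ Over.mk b).left}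
    (hc : IsGenericPoint c (irreducibleComponent g)) {w : ↥(X ⊗ Over.mk b).left}
    (hw : w ⤳ (orbit a (Over.mk b) x).left c) : (orbit a (Over.mk b) x).left c ⤳ w := by
  let T := Over.mk b
  let o := (orbit a T x).left
  haveI : Surjective o := surjective_orbit a T hΦ x
  obtain ⟨η₀, hη₀⟩ := QuasiSober.sober (isIrreducible_irreducibleComponent (x := o c))
    isClosed_irreducibleComponent
  obtain ⟨g₁, hg₁⟩ := o.surjective η₀
  obtain ⟨c₁, hc₁⟩ := QuasiSober.sober (isIrreducible_irreducibleComponent (x := g₁)) isClosed_irreducibleComponent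
  obtain ⟨k₁, hk₁⟩ := exists_ptOf_mem b (isOpen_component b g₁).isLocallyClosed ⟨g₁, mem_irreducibleComponent⟩
  obtain ⟨k, hk⟩ := exists_ptOf_mem b (isOpen_component b g).isLocallyClosed ⟨g, mem_irreducibleComponent⟩
  let L := ((Over.forget S).mapIso (transL T (k * k₁⁻¹))).hom.homeomorph
  let α := ((Over.forget S).mapIso (transX a T (k * k₁⁻¹))).hom.homeomorph
  have hLk : L (ptOf b k₁) = ptOf b k :=
    (transL_ptOf b (k * k₁⁻¹) k₁).trans (by rw [inv_mul_cancel_right])
  have hLC : L '' irreducibleComponent g₁ = irreducibleComponent g := by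
    refine Set.Subset.antisymm ?_ ?_
    · rw [← component_eq b hk]
      exact subset_component b (isIrreducible_irreducibleComponent.image _ L.continuous.continuousOn)
        ⟨_, hk₁, hLk⟩
    · have h1 : L.symm '' irreducibleComponent g ⊆ irreducibleComponent g₁ := by
        rw [← component_eq b hk₁]
        exact subset_component b (isIrreducible_irreducibleComponent.image _ L.symm.continuous.continuousOn)
          ⟨_, hk, by rw [← hLk, L.symm_apply_apply]⟩
      intro q hq
      exact ⟨L.symm q, h1 ⟨q, hq, rfl⟩, L.apply_symm_apply q⟩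
  have hLc : IsGenericPoint (L c₁) (irreducibleComponent g) := by
    have := hc₁.image L.continuous
    rwa [hLC, isClosed_irreducibleComponent.closure_eq] at this
  obtain rfl : L c₁ = c := hLc.eq hc
  have hαo : ∀ q, o (L q) = α (o q) := fun q => by
    change ((transL T (k * k₁⁻¹)).hom.left ≫ (orbit a T x).left) q = ((orbit a T x).left ≫ (transX a T (k * k₁⁻¹)).hom.left) q
    rw [← Over.comp_left, ← Over.comp_left, transL_orbit]
  -- `o c₁` is maximal
  have h₀ : o c₁ ⤳ η₀ := hg₁ ▸ (hc₁.specializes mem_irreducibleComponent).map o.continuous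
  have hmax : ∀ v, v ⤳ η₀ → η₀ ⤳ v := fun v hv => by
    have hsub : irreducibleComponent (o (L c₁)) ⊆ closure {v} := by
      rw [← hη₀]
      exact hv.closure_subset
    have heq := eq_irreducibleComponent isIrreducible_singleton.closure.2 hsub
    exact hη₀.specializes (heq ▸ subset_closure rfl)
  have hw' : α.symm w ⤳ o c₁ := by
    rw [show (orbit a T x).left (L c₁) = α (o c₁) from hαo c₁] at hw
    simpa using hw.map α.symm.continuous
  have := ((h₀.trans (hmax _ (hw'.trans h₀)))).map α.continuous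
  rw [show (orbit a T x).left (L c₁) = α (o c₁) from hαo c₁]
  rwa [α.apply_symm_apply] at this

/-- An open subset of the fibre stable under the unit component is stable under specialization. -/
theorem stableUnderSpecialization_of_stable (hΦ : Surjective (lift a.act (snd G X)).left)
    {O : Set ↥(X ⊗ Over.mk b).left} (hO : IsOpen O)
    (hst : ∀ h, ptOf b h ∈ unitComp b G → ∀ q ∈ O, (transX a (Over.mk b) h).hom.left q ∈ O) :
    StableUnderSpecialization O := by
  intro r' r hrr hr'
  let T := Over.mk b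
  let o := (orbit a T x).left
  haveI : Surjective o := surjective_orbit a T hΦ x
  obtain ⟨g', rfl⟩ := o.surjective r'
  obtain ⟨g, rfl⟩ := o.surjective r
  obtain ⟨c', hc'⟩ := QuasiSober.sober (isIrreducible_irreducibleComponent (x := g')) isClosed_irreducibleComponent
  obtain ⟨c, hc⟩ := QuasiSober.sober (isIrreducible_irreducibleComponent (x := g)) isClosed_irreducibleComponent
  have hαo : ∀ h q, o ((transL T h).hom.left q) = (transX a T h).hom.left (o q) := fun h q => by
    rw [← Scheme.Hom.comp_apply, ← Scheme.Hom.comp_apply, ← Over.comp_left, ← Over.comp_left, transL_orbit]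
  have hc'g' : o c' ⤳ o g' := (hc'.specializes mem_irreducibleComponent).map o.continuous
  have hgA : irreducibleComponent g ⊆ o ⁻¹' closure {o c'} := by
    refine component_subset_of_isClosed b (isClosed_closure.preimage o.continuous) (fun h hh q hq => ?_)
      ⟨g, specializes_iff_mem_closure.mp (hc'g'.trans hrr), mem_irreducibleComponent⟩
    rw [Set.mem_preimage, hαo]
    have h1 : o c' ⤳ (transX a T h).hom.left (o c') := by
      rw [← hαo]
      exact (hc'.specializes (transL_mem_component b hh hc'.mem)).map o.continuous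
    exact specializes_iff_mem_closure.mp
      (h1.trans ((specializes_iff_mem_closure.mpr hq).map (transX a T h).hom.left.continuous))
  have h1 : o c ⤳ o c' :=
    maximal_orbit_generic a b x hΦ hc (specializes_iff_mem_closure.mpr (hgA hc.mem))
  have hcO : o c ∈ O := h1.mem_open hO (hc'g'.mem_open hO hr')
  refine component_subset_of_isOpen b (hO.preimage o.continuous) (fun h hh q hq => ?_)
    ⟨c, hcO, hc.mem⟩ mem_irreducibleComponent
  rw [Set.mem_preimage, hαo]
  exact hst h hh _ hq

end Field

section Field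

variable {K : Type u} [Field K] [IsAlgClosed K] (b : Spec (CommRingCat.of K) ⟶ S)
  [LocallyOfFiniteType (pullback.snd G.hom b)]

omit [GrpObj G] [IsAlgClosed K] [LocallyOfFiniteType (pullback.snd G.hom b)] in
theorem isCompact_pairs {Y : Over S} (A : (G ⊗ Over.mk b).left.Opens) (hA : IsCompact (A : Set ↥(G ⊗ Over.mk b).left))
    (B : (Y ⊗ Over.mk b).left.Opens) (hB : IsCompact (B : Set ↥(Y ⊗ Over.mk b).left)) :
    IsCompact ((projG G Y (Over.mk b)).left ⁻¹' (A : Set ↥(G ⊗ Over.mk b).left) ∩
      (snd G (Y ⊗ Over.mk b)).left ⁻¹' (B : Set ↥(Y ⊗ Over.mk b).left)) := by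
  let p : (G ⊗ Over.mk b).left ⟶ Spec (CommRingCat.of K) := (snd G (Over.mk b)).left
  let q : (Y ⊗ Over.mk b).left ⟶ Spec (CommRingCat.of K) := (snd Y (Over.mk b)).left
  have : QuasiCompact (A.ι ≫ p) := (quasiCompact_iff_compactSpace _).mpr (isCompact_iff_compactSpace.mp hA)
  have : CompactSpace A.toScheme := isCompact_iff_compactSpace.mp hA
  have : QuasiCompact (B.ι ≫ q) := (quasiCompact_iff_compactSpace _).mpr (isCompact_iff_compactSpace.mp hB)
  have : CompactSpace ↥(pullback (A.ι ≫ p) (B.ι ≫ q)) :=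
    (quasiCompact_iff_compactSpace (pullback.fst (A.ι ≫ p) (B.ι ≫ q) ≫ A.ι ≫ p)).mp inferInstance
  let J := pullback.map (A.ι ≫ p) (B.ι ≫ q) p q A.ι B.ι (𝟙 _) (by simp) (by simp)
  have hJ : Set.range J = _ := Scheme.Pullback.range_map (A.ι ≫ p) (B.ι ≫ q) p q A.ι B.ι (𝟙 _) (by simp) (by simp)
  have sq : IsPullback (projG G Y (Over.mk b)).left (snd G (Y ⊗ Over.mk b)).left p q := isPullback_projG G Y (Over.mk b)
  have h := (isCompact_range J.continuous).image sq.isoPullback.inv.continuous
  rw [hJ, Scheme.Opens.range_ι, Scheme.Opens.range_ι] at h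
  have h' : sq.isoPullback.inv '' (pullback.fst p q ⁻¹' (A : Set ↥(G ⊗ Over.mk b).left) ∩
      pullback.snd p q ⁻¹' (B : Set ↥(Y ⊗ Over.mk b).left)) =
      (projG G Y (Over.mk b)).left ⁻¹' (A : Set ↥(G ⊗ Over.mk b).left) ∩
      (snd G (Y ⊗ Over.mk b)).left ⁻¹' (B : Set ↥(Y ⊗ Over.mk b).left) := by
    change sq.isoPullback.inv.homeomorph '' _ = _
    rw [Homeomorph.image_eq_preimage_symm]
    ext v
    have e1 := sq.isoPullback_hom_fst
    have e2 := sq.isoPullback_hom_snd
    simp only [Set.mem_preimage, Set.mem_inter_iff]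
    have f1 : (projG G Y (Over.mk b)).left v = pullback.fst p q (sq.isoPullback.hom v) := by
      rw [← Scheme.Hom.comp_apply]; exact congr($(e1.symm) v)
    have f2 : (snd G (Y ⊗ Over.mk b)).left v = pullback.snd p q (sq.isoPullback.hom v) := by
      rw [← Scheme.Hom.comp_apply]; exact congr($(e2.symm) v)
    have f3 : sq.isoPullback.inv.homeomorph.symm v = sq.isoPullback.hom v := by
      rw [Homeomorph.symm_apply_eq]
      change v = (sq.isoPullback.hom ≫ sq.isoPullback.inv) v
      rw [Iso.hom_inv_id]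
      rfl
    rw [f1, f2, f3]
  rwa [h'] at h

omit [IsAlgClosed K] [LocallyOfFiniteType (pullback.snd G.hom b)] in
theorem isOpenMap_actT : IsOpenMap (actT a (Over.mk b)).left := by
  let q : (X ⊗ Over.mk b).left ⟶ Spec (CommRingCat.of K) := (snd X (Over.mk b)).left
  let p : (G ⊗ Over.mk b).left ⟶ Spec (CommRingCat.of K) := (snd G (Over.mk b)).left
  haveI : Subsingleton (Spec (CommRingCat.of K)) := inferInstanceAs (Subsingleton (PrimeSpectrum _))
  have sq : IsPullback (projG G X (Over.mk b)).left (snd G (X ⊗ Over.mk b)).left p q := isPullback_projG G X (Over.mk b)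
  haveI : UniversallyOpen (snd G (X ⊗ Over.mk b)).left :=
    MorphismProperty.of_isPullback sq (inferInstanceAs (UniversallyOpen p))
  rw [show actT a (Over.mk b) = (shearT a (Over.mk b)).hom ≫ snd G (X ⊗ Over.mk b) by simp [shearT],
    Over.comp_left]
  haveI : IsIso (shearT a (Over.mk b)).hom.left := isIso_left _
  exact Scheme.Hom.isOpenMap _

/-- The saturation of a set of the fibre under the unit component. -/
noncomputable def saturation (U : Set ↥(X ⊗ Over.mk b).left) : Set ↥(X ⊗ Over.mk b).left :=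
  (actT a (Over.mk b)).left '' ((projG G X (Over.mk b)).left ⁻¹' unitComp b G ∩
    (snd G (X ⊗ Over.mk b)).left ⁻¹' U)

omit [IsAlgClosed K] in
theorem isOpen_saturation {U : Set ↥(X ⊗ Over.mk b).left} (hU : IsOpen U) : IsOpen (saturation a b U) :=
  isOpenMap_actT a b _ (((isOpen_component b _).preimage (projG G X (Over.mk b)).left.continuous).inter
    (hU.preimage (snd G (X ⊗ Over.mk b)).left.continuous))

/-- The unit component is quasi-compact. -/
theorem isCompact_unitComp : IsCompact (unitComp b G) := by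
  let T := Over.mk b
  let C0 : (G ⊗ T).left.Opens := ⟨unitComp b G, isOpen_component b _⟩
  obtain ⟨_, ⟨W, hW, rfl⟩, heW, -⟩ := (G ⊗ T).left.isBasis_affineOpens.exists_subset_of_mem_open
    (Set.mem_univ (ptOf b (1 : T ⟶ G))) isOpen_univ
  let A : (G ⊗ T).left.Opens := W ⊓ C0
  have hA : IsCompact (A : Set ↥(G ⊗ T).left) := hW.isCompact.inter_right isClosed_irreducibleComponent
  let m := mulAction G
  let P : Set ↥(G ⊗ (G ⊗ T)).left :=
    (projG G G T).left ⁻¹' (A : Set ↥(G ⊗ T).left) ∩ (snd G (G ⊗ T)).left ⁻¹' (A : Set ↥(G ⊗ T).left)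
  have hPo : IsOpen ((actT m T).left '' P) := isOpenMap_actT m b _
    ((A.2.preimage (projG G G T).left.continuous).inter (A.2.preimage (snd G (G ⊗ T)).left.continuous))
  refine ((isCompact_pairs b A hA A hA).image (actT m T).left.continuous).of_isClosed_subset
    isClosed_irreducibleComponent ?_
  by_contra hsub
  haveI := jacobson (G := G) b
  obtain ⟨c, hc⟩ := Set.not_subset.mp hsub
  obtain ⟨k, hk, hkP⟩ := exists_ptOf_mem b ((isOpen_component b _).isLocallyClosed.inter
    hPo.isClosed_compl.isLocallyClosed) ⟨c, hc⟩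
  apply hkP
  -- a point `d` with `d` and `k d⁻¹` both in `A`
  let ψ := (lift (fst G T)⁻¹ (snd G T) ≫ (transL T k).hom)
  have hψ : ∀ d, ψ.left (ptOf b d) = ptOf b (k * d⁻¹) := fun d =>
    map_ptOf b _ _ _ (by simp [ψ, T, transL, comp_lift, comp_lift_assoc, MonObj.comp_mul, GrpObj.comp_inv])
  have heA : ptOf b (1 : T ⟶ G) ∈ A := ⟨heW, mem_irreducibleComponent⟩
  obtain ⟨d, ⟨-, hdA, hdψ⟩⟩ := exists_ptOf_mem b
    ((isOpen_component b _).inter (A.2.inter (A.2.preimage ψ.left.continuous))).isLocallyClosed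
    (isIrreducible_irreducibleComponent.2 _ _ A.2 (A.2.preimage ψ.left.continuous) ⟨_, mem_irreducibleComponent, heA⟩
      ⟨ptOf b k, hk, by rw [Set.mem_preimage, hψ, mul_inv_cancel]; exact heA⟩)
  rw [Set.mem_preimage, hψ] at hdψ
  let Q : T ⟶ G ⊗ (G ⊗ T) := lift (k * d⁻¹) (lift d (𝟙 T))
  refine ⟨Q.left (IsLocalRing.closedPoint K), ⟨?_, ?_⟩, ?_⟩
  · change (Q.left ≫ (projG G G T).left) _ ∈ A
    rw [← Over.comp_left, show Q ≫ projG G G T = lift (k * d⁻¹) (𝟙 T) by simp [Q, projG, comp_lift]]
    exact hdψ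
  · change (Q.left ≫ (snd G (G ⊗ T)).left) _ ∈ A
    rw [← Over.comp_left, lift_snd]
    exact hdA
  · change (Q.left ≫ (actT m T).left) _ = _
    rw [← Over.comp_left, show Q ≫ actT m T = lift k (𝟙 T) by
      simp [Q, T, actT, m, mulAction, comp_lift, comp_lift_assoc, ← Hom.mul_def, MonObj.comp_mul]]
    rfl

theorem isCompact_saturation {U : (X ⊗ Over.mk b).left.Opens} (hU : IsCompact (U : Set ↥(X ⊗ Over.mk b).left)) :
    IsCompact (saturation a b (U : Set ↥(X ⊗ Over.mk b).left)) :=
  (isCompact_pairs b ⟨unitComp b G, isOpen_component b _⟩ (isCompact_unitComp b) U hU).image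
    (actT a (Over.mk b)).left.continuous

theorem saturation_stable (U : Set ↥(X ⊗ Over.mk b).left) (h : Over.mk b ⟶ G) (hh : ptOf b h ∈ unitComp b G)
    (q : ↥(X ⊗ Over.mk b).left) (hq : q ∈ saturation a b U) :
    (transX a (Over.mk b) h).hom.left q ∈ saturation a b U := by
  obtain ⟨v, ⟨hv₁, hv₂⟩, rfl⟩ := hq
  refine ⟨(transP (Over.mk b) X h).left v, ⟨?_, ?_⟩, ?_⟩
  · rw [Set.mem_preimage, ← Scheme.Hom.comp_apply, ← Over.comp_left, transP_projG, Over.comp_left,
      Scheme.Hom.comp_apply]
    exact transL_mem_component b hh hv₁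
  · rw [Set.mem_preimage, ← Scheme.Hom.comp_apply, ← Over.comp_left,
      show transP (Over.mk b) X h ≫ snd G (X ⊗ Over.mk b) = snd G (X ⊗ Over.mk b) from lift_snd _ _]
    exact hv₂
  · rw [← Scheme.Hom.comp_apply, ← Scheme.Hom.comp_apply, ← Over.comp_left, ← Over.comp_left, transP_actT]

end Field

end GrothLib.SepAct
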