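import Groth.Agent.Lib.SepAct.Orbit
import Groth.Agent.Lib.SepAct.Connected

/-!
For a transitive action with quasi-separated connected fibre, the translates of any affine open
meeting the fibre under the unit component are the whole geometric fibre.
-/

universe u

open CategoryTheory CategoryTheory.Limits MonoidalCategory CartesianMonoidalCategory MonObj GrpObj
open AlgebraicGeometry Topology

set_option backward.isDefEq.respectTransparency false

namespace GrothLib.SepAct

open GrothLib.GrpSchField

variable {S : Scheme.{u}}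

/-- `G ◁ f`, with projections in cartesian form. -/
noncomputable def baseMap (G : Over S) {Y' Y : Over S} (f : Y' ⟶ Y) : G ⊗ Y' ⟶ G ⊗ Y :=
  lift (fst G Y') (snd G Y' ≫ f)

theorem isPullback_baseMap (G : Over S) {Y' Y : Over S} (f : Y' ⟶ Y) :
    IsPullback (baseMap G f).left (snd G Y').left (snd G Y).left f.left := by
  have hw : baseMap G f ≫ snd G Y = snd G Y' ≫ f := lift_snd _ _
  have sq : IsPullback (baseMap G f) (snd G Y') (snd G Y) f := by
    refine IsPullback.of_isLimit' ⟨hw⟩ (PullbackCone.IsLimit.mk _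
      (fun s => lift (s.fst ≫ fst G Y) s.snd) (fun s => ?_) (fun s => ?_) (fun s m h₁ h₂ => ?_))
    · refine CartesianMonoidalCategory.hom_ext _ _ (by simp [baseMap]) ?_
      simp [baseMap, s.condition]
    · simp
    · refine CartesianMonoidalCategory.hom_ext _ _ ?_ (by simp [← h₂])
      simp [← h₁, baseMap]
  exact sq.map (Over.forget S)

theorem left_apply {A B C : Over S} {f : A ⟶ B} {g : B ⟶ C} {h : A ⟶ C} (e : f ≫ g = h) (v : A.left) :
    g.left (f.left v) = h.left v := by
  rw [← e, Over.comp_left, Scheme.Hom.comp_apply]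

theorem left_apply₂ {A B B' C : Over S} {f : A ⟶ B} {g : B ⟶ C} {f' : A ⟶ B'} {g' : B' ⟶ C}
    (e : f ≫ g = f' ≫ g') (v : A.left) : g.left (f.left v) = g'.left (f'.left v) := by
  rw [left_apply e v, Over.comp_left, Scheme.Hom.comp_apply]

theorem exists_fibreMap {K : Type u} [Field K] (b : Spec (CommRingCat.of K) ⟶ S) (Y : Over S) :
    ∃ (π : (Y ⊗ Over.mk b).left ⟶ Y.hom.fiber (b (IsLocalRing.closedPoint K)))
      (β : Spec (CommRingCat.of K) ⟶ Spec (S.residueField (b (IsLocalRing.closedPoint K)))),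
      π ≫ Y.hom.fiberι _ = (fst Y (Over.mk b)).left ∧ UniversallyOpen π ∧ Surjective π ∧
      β ≫ S.fromSpecResidueField _ = b ∧
      IsPullback π (snd Y (Over.mk b)).left (Y.hom.fiberToSpecResidueField _) β := by
  let s := b (IsLocalRing.closedPoint K)
  let β := Spec.map (Scheme.descResidueField (Scheme.stalkClosedPointTo b))
  have hβ : β ≫ S.fromSpecResidueField s = b :=
    Scheme.descResidueField_stalkClosedPointTo_fromSpecResidueField K S b
  let π : pullback Y.hom b ⟶ Y.hom.fiber s := pullback.lift (pullback.fst _ _) (pullback.snd _ _ ≫ β)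
    (by rw [Category.assoc, hβ, pullback.condition])
  have h1 : IsPullback π (pullback.snd Y.hom b) (Y.hom.fiberToSpecResidueField s) β := by
    refine IsPullback.of_right (h₁₂ := Y.hom.fiberι s) (v₁₃ := Y.hom) (h₂₂ := S.fromSpecResidueField s)
      ?_ ?_ ?_
    · rw [hβ, show π ≫ Y.hom.fiberι s = pullback.fst _ _ from pullback.lift_fst _ _ _]
      exact IsPullback.of_hasPullback Y.hom b
    · exact pullback.lift_snd _ _ _
    · exact IsPullback.of_hasPullback Y.hom (S.fromSpecResidueField s)
  haveI : IsIntegral (Spec (S.residueField s)) := inferInstance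
  haveI : Subsingleton (Spec (S.residueField s)) := inferInstanceAs (Subsingleton (PrimeSpectrum _))
  haveI : Surjective β := ⟨fun _ => ⟨IsLocalRing.closedPoint K, Subsingleton.elim _ _⟩⟩
  exact ⟨π, β, pullback.lift_fst _ _ _, MorphismProperty.of_isPullback h1.flip (inferInstanceAs (UniversallyOpen β)),
    MorphismProperty.of_isPullback h1.flip (inferInstanceAs (Surjective β)), hβ, h1⟩

variable {G X : Over S} [GrpObj G] [LocallyOfFiniteType G.hom]
variable {K : Type u} [Field K] [IsAlgClosed K] (b : Spec (CommRingCat.of K) ⟶ S)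

omit [IsAlgClosed K] in
theorem preimage_image_unitComp :
    (fst G (Over.mk b)).left ⁻¹' ((fst G (Over.mk b)).left '' unitComp b G) ⊆ unitComp b G := by
  let T := Over.mk b
  let s := b (IsLocalRing.closedPoint K)
  obtain ⟨π, β, hπ, -, -, hβ, h1⟩ := exists_fibreMap b G
  let H := Red.bc (S.fromSpecResidueField s) G
  haveI : LocallyOfFiniteType H.hom :=
    inferInstanceAs (LocallyOfFiniteType (pullback.snd G.hom (S.fromSpecResidueField s)))
  let e := ptOf b (1 : T ⟶ G)
  let Zs : Set H.left := irreducibleComponent (π e : H.left)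
  let Z : H.left.Opens := ⟨Zs, isOpen_of_mem_irreducibleComponents H (irreducibleComponent_mem_irreducibleComponents _)⟩
  haveI : IsClosedImmersion Z.ι := IsClosedImmersion.of_isPreimmersion _ (by
    rw [Scheme.Opens.range_ι]; exact isClosed_irreducibleComponent)
  haveI : IrreducibleSpace Z.toScheme :=
    Subtype.irreducibleSpace (isIrreducible_irreducibleComponent (x := (π e : H.left)))
  have he : η[H].left (IsLocalRing.closedPoint (S.residueField s)) ∈ Zs := by
    have : η[H].left (IsLocalRing.closedPoint (S.residueField s)) = (π e : H.left) := by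
      apply (G.hom.fiberι s).isEmbedding.injective
      have h2 : G.hom.fiberι s (π e) = (1 : T ⟶ G).left (IsLocalRing.closedPoint K) := by
        rw [← Scheme.Hom.comp_apply, hπ]
        simp only [e, ptOf]
        rw [← Scheme.Hom.comp_apply, ← Over.comp_left, lift_fst]
      rw [h2, Hom.one_def, Over.comp_left, Scheme.Hom.comp_apply]
      have h3 : η[H].left ≫ G.hom.fiberι s = S.fromSpecResidueField s ≫ η[G].left := by
        simp [H, Scheme.Hom.fiberι, Red.bc, Red.grpObj_bc]
      exact (congr($h3 (IsLocalRing.closedPoint (S.residueField s)))).trans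
        (congrArg η[G].left (S.fromSpecResidueField_apply s _))
    rw [this]
    exact mem_irreducibleComponent
  haveI := GrothLib.GrpSchField.geometricallyIrreducible_component H Z.ι
    (by rw [Scheme.Opens.range_ι]; exact irreducibleComponent_mem_irreducibleComponents _)
    (by rw [Scheme.Opens.range_ι]; exact he)
  haveI : IrreducibleSpace ↥(π ⁻¹ᵁ Z).toScheme :=
    GeometricallyIrreducible.geometrically_irreducibleSpace (f := Z.ι ≫ H.hom) β (π ∣_ Z)
      ((π ⁻¹ᵁ Z).ι ≫ (snd G T).left) ((isPullback_morphismRestrict π Z).paste_vert h1)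
  have hirr : IsIrreducible (π ⁻¹' Zs) := by
    have := (IrreducibleSpace.isIrreducible_univ (π ⁻¹ᵁ Z).toScheme).image (π ⁻¹ᵁ Z).ι
      (π ⁻¹ᵁ Z).ι.continuous.continuousOn
    rw [Set.image_univ, Scheme.Opens.range_ι] at this
    exact this
  rintro v ⟨w, hw, hwv⟩
  refine subset_component b hirr (mem_irreducibleComponent : π e ∈ Zs) ?_
  have : π v = π w := (G.hom.fiberι s).isEmbedding.injective (by
    rw [← Scheme.Hom.comp_apply, ← Scheme.Hom.comp_apply, hπ, hwv])
  rw [Set.mem_preimage, this]
  exact subset_irreducibleComponent (P := H) (isIrreducible_irreducibleComponent.image _ π.continuous.continuousOn)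
    ⟨e, mem_irreducibleComponent, rfl⟩ ⟨w, hw, rfl⟩

variable (a : AlgGrp.Action G X)

omit [LocallyOfFiniteType G.hom] in
theorem shearT_projG (T : Over S) :
    (shearT a T).hom ≫ projG G X T = projG G X T ≫ lift (fst G T)⁻¹ (snd G T) := by
  simp [shearT, projG, actT, comp_lift, comp_lift_assoc, GrpObj.comp_inv]

omit [LocallyOfFiniteType G.hom] in
theorem shearT_actT (T : Over S) : (shearT a T).hom ≫ actT a T = snd G (X ⊗ T) := by
  have h := congr($((shearT a T).hom_inv_id) ≫ snd G (X ⊗ T))
  simpa [shearT] using h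

omit [LocallyOfFiniteType G.hom] in
theorem shearT_snd (T : Over S) : (shearT a T).hom ≫ snd G (X ⊗ T) = actT a T := by
  simp [shearT]

/-- The saturation of the trace of a subset of `X` comes from a subset of `X`. -/
theorem saturation_saturated (U : Set X.left) {r₁ r₂ : ↥(X ⊗ Over.mk b).left}
    (h₁ : r₁ ∈ saturation a b ((fst X (Over.mk b)).left ⁻¹' U))
    (h : (fst X (Over.mk b)).left r₁ = (fst X (Over.mk b)).left r₂) :
    r₂ ∈ saturation a b ((fst X (Over.mk b)).left ⁻¹' U) := by
  let T := Over.mk b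
  let p := baseMap G (fst X T)
  obtain ⟨v₁, ⟨hv₁, hv₁'⟩, rfl⟩ := h₁
  let w₁ := (shearT a T).hom.left v₁
  have hw₁ : (snd G (X ⊗ T)).left w₁ = (actT a T).left v₁ := by
    rw [← Scheme.Hom.comp_apply, ← Over.comp_left, shearT_snd]
  have hw₁p : (projG G X T).left w₁ ∈ unitComp b G := by
    rw [← Scheme.Hom.comp_apply, ← Over.comp_left, shearT_projG, Over.comp_left, Scheme.Hom.comp_apply]
    exact inv_mem_unitComp b hv₁
  obtain ⟨w₂, hw₂, hw₂'⟩ := Scheme.exists_preimage_of_isPullback (isPullback_baseMap G (fst X T))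
    (p.left w₁) r₂ (by
      change (p.left ≫ (snd G X).left) w₁ = (fst X T).left r₂
      rw [← h, ← Over.comp_left, show p ≫ snd G X = snd G (X ⊗ T) ≫ fst X T from lift_snd _ _,
        Over.comp_left, Scheme.Hom.comp_apply, hw₁])
  have hfG : projG G X T ≫ fst G T = p ≫ fst G X := by simp [projG, p, baseMap]
  have hfX : actT a T ≫ fst X T = p ≫ a.act := by simp [actT, p, baseMap]
  have eG : ∀ w, (fst G T).left ((projG G X T).left w) = (fst G X).left (p.left w) := fun w => by
    simp only [← Scheme.Hom.comp_apply, ← Over.comp_left, hfG]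
  have eX : ∀ w, (fst X T).left ((actT a T).left w) = a.act.left (p.left w) := fun w => by
    simp only [← Scheme.Hom.comp_apply, ← Over.comp_left, hfX]
  have eS : ∀ w, (snd G (X ⊗ T)).left ((shearT a T).hom.left w) = (actT a T).left w := fun w => by
    rw [← Scheme.Hom.comp_apply, ← Over.comp_left, shearT_snd]
  have eA : ∀ w, (actT a T).left ((shearT a T).hom.left w) = (snd G (X ⊗ T)).left w := fun w => by
    rw [← Scheme.Hom.comp_apply, ← Over.comp_left, shearT_actT]
  refine ⟨(shearT a T).hom.left w₂, ⟨?_, ?_⟩, ?_⟩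
  · rw [Set.mem_preimage, ← Scheme.Hom.comp_apply, ← Over.comp_left, shearT_projG, Over.comp_left, Scheme.Hom.comp_apply]
    refine inv_mem_unitComp b (preimage_image_unitComp b ⟨_, hw₁p, ?_⟩)
    exact ((eG w₁).trans (congrArg (fst G X).left hw₂.symm)).trans (eG w₂).symm
  · refine Set.mem_preimage.mpr (Set.mem_preimage.mpr ?_)
    rw [eS]
    change (fst X T).left ((actT a T).left w₂) ∈ U
    rw [eX, show p.left w₂ = p.left w₁ from hw₂, ← eX, eA]
    exact hv₁'
  · rw [← Scheme.Hom.comp_apply, ← Over.comp_left, shearT_actT]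
    exact hw₂'

/-- With connected quasi-separated fibre the saturation of an affine open meeting it is everything. -/
theorem saturation_eq_univ (hΦ : Surjective (lift a.act (snd G X)).left) (x : Over.mk b ⟶ X)
    (hqs : QuasiSeparatedSpace ↥(X.hom ⁻¹' {b (IsLocalRing.closedPoint K)}))
    (hconn : _root_.IsPreconnected (X.hom ⁻¹' {b (IsLocalRing.closedPoint K)}))
    {S₀ : S.Opens} (hS₀ : IsAffineOpen S₀) (hbS₀ : b (IsLocalRing.closedPoint K) ∈ S₀)
    {U : X.left.Opens} (hU : IsAffineOpen U) (hUS₀ : U ≤ X.hom ⁻¹ᵁ S₀)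
    (hne : ((U : Set X.left) ∩ X.hom ⁻¹' {b (IsLocalRing.closedPoint K)}).Nonempty) :
    saturation a b ((fst X (Over.mk b)).left ⁻¹' (U : Set X.left)) = Set.univ := by
  let T := Over.mk b
  let s := b (IsLocalRing.closedPoint K)
  obtain ⟨π, β, hπ, hπo, hπs, hβ, h1⟩ := exists_fibreMap b X
  haveI := hπo
  haveI := hπs
  let fib : X.hom.fiber s ⟶ Spec (S.residueField s) := X.hom.fiberToSpecResidueField s
  haveI : QuasiSeparatedSpace ↥(X.hom.fiber s) :=
    QuasiSeparatedSpace.of_isOpenEmbedding (X.hom.fiberHomeo s).isOpenEmbedding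
  haveI : QuasiSeparated fib := (HasAffineProperty.iff_of_isAffine (P := @QuasiSeparated)).mpr inferInstance
  let q : (X ⊗ T).left ⟶ Spec (CommRingCat.of K) := (snd X T).left
  haveI : QuasiSeparated q := MorphismProperty.of_isPullback h1 (inferInstanceAs (QuasiSeparated fib))
  let UK : (X ⊗ T).left.Opens := (fst X T).left ⁻¹ᵁ U
  have hUK : IsCompact (UK : Set ↥(X ⊗ T).left) := by
    haveI : IsAffine U.toScheme := hU
    haveI : IsAffine S₀.toScheme := hS₀
    have hb : Set.range b ⊆ Set.range S₀.ι := by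
      rintro _ ⟨w, rfl⟩
      rw [Scheme.Opens.range_ι, Subsingleton.elim (α := PrimeSpectrum K) w (IsLocalRing.closedPoint K)]
      exact hbS₀
    have hf : Set.range (U.ι ≫ X.hom) ⊆ Set.range S₀.ι := by
      rintro _ ⟨w, rfl⟩
      rw [Scheme.Opens.range_ι]
      exact hUS₀ w.2
    let f₀ := IsOpenImmersion.lift S₀.ι (U.ι ≫ X.hom) hf
    let b₀ := IsOpenImmersion.lift S₀.ι b hb
    let J := pullback.map f₀ b₀ X.hom b U.ι (𝟙 _) S₀.ι (IsOpenImmersion.lift_fac ..)
      (by rw [Category.id_comp]; exact IsOpenImmersion.lift_fac ..)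
    have hJ : Set.range J = _ := Scheme.Pullback.range_map f₀ b₀ X.hom b U.ι (𝟙 _) S₀.ι
      (IsOpenImmersion.lift_fac ..) (by rw [Category.id_comp]; exact IsOpenImmersion.lift_fac ..)
    have h := isCompact_range J.continuous
    rw [hJ, Scheme.Opens.range_ι, show Set.range (𝟙 (Spec (CommRingCat.of K)) : _ ⟶ _) = Set.univ from Set.range_id,
      Set.preimage_univ, Set.inter_univ] at h
    exact h
  let V := saturation a b (UK : Set ↥(X ⊗ T).left)
  have hVo : IsOpen V := isOpen_saturation a b UK.2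
  have hVc : IsClosed V := by
    let Vo : (X ⊗ T).left.Opens := ⟨V, hVo⟩
    haveI : CompactSpace Vo.toScheme := isCompact_iff_compactSpace.mp (isCompact_saturation a b hUK)
    haveI : QuasiCompact (Vo.ι ≫ q) := (quasiCompact_iff_compactSpace _).mpr inferInstance
    haveI : QuasiCompact Vo.ι := QuasiCompact.of_comp Vo.ι q
    have hst : StableUnderSpecialization V :=
      stableUnderSpecialization_of_stable a b x hΦ hVo fun h hh r hr => saturation_stable a b _ h hh r hr
    have hsp : SpecializingMap Vo.ι := by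
      intro v r hvr
      have hr : r ∈ V := hst hvr v.2
      exact ⟨⟨r, hr⟩, Vo.ι.isOpenEmbedding.isInducing.specializes_iff.mp hvr, rfl⟩
    have := ((isClosedMap_iff_specializingMap Vo.ι).mpr hsp).isClosed_range
    rwa [Scheme.Opens.range_ι] at this
  have hVU : (UK : Set ↥(X ⊗ T).left) ⊆ V := by
    intro r hr
    refine ⟨(lift (1 : X ⊗ T ⟶ G) (𝟙 (X ⊗ T))).left r, ⟨?_, ?_⟩, ?_⟩
    · rw [Set.mem_preimage, ← Scheme.Hom.comp_apply, ← Over.comp_left,
        show lift (1 : X ⊗ T ⟶ G) (𝟙 (X ⊗ T)) ≫ projG G X T = snd X T ≫ lift (1 : T ⟶ G) (𝟙 T) by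
          simp [projG, comp_lift, MonObj.comp_one],
        Over.comp_left, Scheme.Hom.comp_apply,
        show (snd X T).left r = IsLocalRing.closedPoint K from Subsingleton.elim (α := PrimeSpectrum K) _ _]
      exact mem_irreducibleComponent
    · rw [Set.mem_preimage, ← Scheme.Hom.comp_apply, ← Over.comp_left, lift_snd]
      exact hr
    · rw [← Scheme.Hom.comp_apply, ← Over.comp_left,
        show lift (1 : X ⊗ T ⟶ G) (𝟙 (X ⊗ T)) ≫ actT a T = 𝟙 (X ⊗ T) by
          refine CartesianMonoidalCategory.hom_ext _ _ ?_ (by simp [actT])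
          simp [actT, comp_lift_assoc, act_one]]
      rfl
  have hsat : π ⁻¹' (π '' V) = V := by
    refine Set.Subset.antisymm (fun r ⟨r', hr', hrr'⟩ => saturation_saturated b a U hr' ?_)
      (Set.subset_preimage_image _ _)
    rw [← hπ, Scheme.Hom.comp_apply, Scheme.Hom.comp_apply, hrr']
  have hclopen : IsClopen (π '' V) := by
    refine ⟨?_, π.isOpenMap V hVo⟩
    rw [← isOpen_compl_iff]
    have e : (π '' V)ᶜ = π '' Vᶜ := by
      conv_rhs => rw [← hsat, ← Set.preimage_compl]
      rw [Set.image_preimage_eq _ π.surjective]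
    rw [e]
    exact π.isOpenMap _ hVc.isOpen_compl
  haveI : PreconnectedSpace ↥(X.hom ⁻¹' {s}) := isPreconnected_iff_preconnectedSpace.mp hconn
  haveI : PreconnectedSpace ↥(X.hom.fiber s) := ⟨by
    rw [← (X.hom.fiberHomeo s).symm.surjective.range_eq]
    exact isPreconnected_range (X.hom.fiberHomeo s).symm.continuous⟩
  have huniv : π '' V = Set.univ := hclopen.eq_univ (by
    obtain ⟨p, hpU, hps⟩ := hne
    obtain ⟨p', rfl⟩ : p ∈ Set.range (X.hom.fiberι s) := by rw [Scheme.Hom.range_fiberι]; exact hps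
    obtain ⟨r, rfl⟩ := π.surjective p'
    rw [← Scheme.Hom.comp_apply, hπ] at hpU
    exact ⟨_, r, hVU hpU, rfl⟩)
  exact Set.eq_univ_of_univ_subset (by rw [← Set.preimage_univ (f := π), ← huniv, hsat]; rfl)

/-- Hence every point has a translate by the unit component in a given affine open meeting the fibre. -/
theorem key_of_connected (hΦ : Surjective (lift a.act (snd G X)).left) (z : Over.mk b ⟶ X)
    (hqs : QuasiSeparatedSpace ↥(X.hom ⁻¹' {b (IsLocalRing.closedPoint K)}))
    (hconn : _root_.IsPreconnected (X.hom ⁻¹' {b (IsLocalRing.closedPoint K)}))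
    {S₀ : S.Opens} (hS₀ : IsAffineOpen S₀) (hbS₀ : b (IsLocalRing.closedPoint K) ∈ S₀)
    {U : X.left.Opens} (hU : IsAffineOpen U) (hUS₀ : U ≤ X.hom ⁻¹ᵁ S₀)
    (hne : ((U : Set X.left) ∩ X.hom ⁻¹' {b (IsLocalRing.closedPoint K)}).Nonempty) :
    (irreducibleComponent ((lift (1 : Over.mk b ⟶ G) (𝟙 (Over.mk b))).left (IsLocalRing.closedPoint K)) ∩
      (orbit a (Over.mk b) z).left ⁻¹' ((fst X (Over.mk b)).left ⁻¹' (U : Set X.left))).Nonempty := by
  let T := Over.mk b
  let σ : T ⟶ X ⊗ T := lift z (𝟙 T)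
  obtain ⟨v, ⟨hv, hv'⟩, hvr⟩ : ptOf b z ∈ saturation a b ((fst X T).left ⁻¹' (U : Set X.left)) := by
    rw [saturation_eq_univ b a hΦ z hqs hconn hS₀ hbS₀ hU hUS₀ hne]; trivial
  let w : ↥(G ⊗ (X ⊗ T)).left := (shearT a T).hom.left v
  have hw : (snd G (X ⊗ T)).left w = σ.left (IsLocalRing.closedPoint K) :=
    (left_apply (shearT_snd a T) v).trans hvr
  obtain ⟨g, hg, -⟩ := Scheme.exists_preimage_of_isPullback (isPullback_baseMap G σ) w
    (IsLocalRing.closedPoint K) hw
  have hg' : (baseMap G σ).left g = w := hg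
  have e₁ : baseMap G σ ≫ projG G X T = 𝟙 (G ⊗ T) := by
    refine CartesianMonoidalCategory.hom_ext _ _ (by simp [baseMap, projG]) ?_
    simp [baseMap, projG, σ]
  have e₂ : baseMap G σ ≫ actT a T = orbit a T z := by
    simp [orbit, baseMap, actT, σ, comp_lift, comp_lift_assoc]
  refine ⟨g, ?_, ?_⟩
  · have h1 : g = (projG G X T).left w := by
      rw [← hg', left_apply e₁ g]
      rfl
    rw [h1, left_apply₂ (shearT_projG a T) v]
    exact inv_mem_unitComp b hv
  · have h1 : (orbit a T z).left g = (snd G (X ⊗ T)).left v := by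
      rw [← left_apply e₂ g, hg', left_apply (shearT_actT a T) v]
    rw [Set.mem_preimage, h1]
    exact hv'

end GrothLib.SepAct
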